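import Cfsg.Agent.Lib.SECoreTwoClosed.UThree.Model
import Cfsg.Agent.Lib.SEAbelian.ReduceTools
import Cfsg.Agent.Lib.Transfer.Fusion
import Cfsg.Agent.Lib.PLocal.ThompsonSubgroup

/-!
# Groups of type `U₃(2^n)`: the Sylow subgroup and the fusion of its centre
-/

set_option autoImplicit false
set_option linter.style.haveILetI false
set_option linter.unusedSectionVars false

namespace Cfsg.Agent.SECoreTwoClosed

open Subgroup
open Cfsg.Agent.Involutions

universe u v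

variable {G : Type u} [Group G] {S : Subgroup G} {n : ℕ}

theorem ctr_le : ctr S ≤ S := map_subtype_le _

theorem commute_ctr {z s : G} (hz : z ∈ ctr S) (hs : s ∈ S) : Commute z s :=
  (((mem_ctr (ctr_le hz)).1 hz) s hs).symm

theorem mem_ctr_equiv {H : Type v} [Group H] {T : Subgroup H} (e : ↥S ≃* ↥T) (s : ↥S) :
    ((e s : ↥T) : H) ∈ ctr T ↔ (s : G) ∈ ctr S := by
  rw [ctr, ctr, show ((e s : ↥T) : H) = T.subtype (e s) from rfl,
    show (s : G) = S.subtype s from rfl, mem_map_iff_mem T.subtype_injective,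
    mem_map_iff_mem S.subtype_injective, Subgroup.mem_center_iff, Subgroup.mem_center_iff]
  constructor
  · intro h t
    exact e.injective (by rw [map_mul, map_mul]; exact h (e t))
  · intro h t
    obtain ⟨t, rfl⟩ := e.surjective t
    rw [← map_mul, ← map_mul, h t]

/-- The properties pass to an isomorphic subgroup. -/
theorem UType.of_equiv (h : UType S n) {H : Type v} [Group H] {T : Subgroup H} (e : ↥S ≃* ↥T) :
    UType T n := by
  have hlift : ∀ x ∈ T, ∃ s : ↥S, ((e s : ↥T) : H) = x := fun x hx => by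
    obtain ⟨s, hs⟩ := e.surjective ⟨x, hx⟩
    exact ⟨s, congrArg Subtype.val hs⟩
  have heq : ∀ {a b : ↥S}, ((e a : ↥T) : H) = (e b : ↥T) ↔ (a : G) = b := fun {a b} => by
    rw [Subtype.coe_inj, e.injective.eq_iff, Subtype.coe_inj]
  have hone : ∀ {a : ↥S}, ((e a : ↥T) : H) = 1 ↔ (a : G) = 1 := fun {a} => by
    rw [OneMemClass.coe_eq_one, EmbeddingLike.map_eq_one_iff, OneMemClass.coe_eq_one]
  have hmul : ∀ a b : ↥S, ((e a : ↥T) : H) * (e b : ↥T) = (e (a * b) : ↥T) := fun a b => by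
    rw [map_mul]; rfl
  refine ⟨h.three_le, h.two.of_equiv e, ?_, ?_, fun x hx => ?_, fun x hx h1 => ?_, fun x hx => ?_,
    fun x hx hxc z hz => ?_, fun x hx hxc y hy y' hy' c c' => ?_, ?_⟩
  · rw [← Nat.card_congr e.toEquiv, h.card]
  · rw [← h.card_ctr, ctr, ctr, card_map_of_injective T.subtype_injective,
      card_map_of_injective S.subtype_injective]
    exact (Nat.card_congr (Subgroup.centerCongr e).toEquiv).symm
  · obtain ⟨s, rfl⟩ := hlift x (ctr_le hx)
    rw [hmul, hone, Subgroup.coe_mul]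
    exact h.exp _ ((mem_ctr_equiv e s).1 hx)
  · obtain ⟨s, rfl⟩ := hlift x hx
    rw [mem_ctr_equiv]
    exact h.invol _ s.2 (by rwa [hmul, hone, Subgroup.coe_mul] at h1)
  · obtain ⟨s, rfl⟩ := hlift x hx
    rw [hmul, mem_ctr_equiv, Subgroup.coe_mul]
    exact h.sq _ s.2
  · obtain ⟨s, rfl⟩ := hlift x hx
    obtain ⟨w, rfl⟩ := hlift z (ctr_le hz)
    rw [mem_ctr_equiv] at hxc hz
    obtain ⟨t, ht, he⟩ := h.full _ s.2 hxc _ hz
    refine ⟨(e ⟨t, ht⟩ : ↥T), (e _).2, ?_⟩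
    rw [← Subgroup.coe_inv, ← map_inv, hmul, hmul, hmul, heq]
    exact he
  · obtain ⟨s, rfl⟩ := hlift x hx
    obtain ⟨a, rfl⟩ := hlift y hy
    obtain ⟨b, rfl⟩ := hlift y' hy'
    rw [mem_ctr_equiv] at hxc
    have hc : ∀ {a b : ↥S}, Commute ((e a : ↥T) : H) (e b : ↥T) ↔ Commute (a : G) b := fun {a b} => by
      rw [commute_iff_eq, commute_iff_eq, hmul, hmul, heq, Subgroup.coe_mul, Subgroup.coe_mul]
    exact hc.2 (h.cent_comm _ s.2 hxc _ a.2 _ b.2 (hc.1 c) (hc.1 c'))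
  · obtain ⟨x, hx, y, hy, h1, h2, h3⟩ := h.two_squares
    refine ⟨(e ⟨x, hx⟩ : ↥T), (e _).2, (e ⟨y, hy⟩ : ↥T), (e _).2, ?_, ?_, ?_⟩ <;>
      simp only [ne_eq, hmul, hone, heq, Subgroup.coe_mul] <;> assumption

namespace UType

variable (h : UType S n)
include h

theorem eight_le : 8 ≤ Nat.card ↥(ctr S) := by
  rw [h.card_ctr]
  exact le_trans (by norm_num) (Nat.pow_le_pow_right (by norm_num) h.three_le)

theorem ctr_elementary : Cfsg.IsElementaryAbelian 2 (ctr S) :=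
  PLocal.ThompsonSubgroup.isElementaryAbelian_iff.mpr
    ⟨fun a ha b hb => (commute_ctr ha (ctr_le hb)).eq, fun a ha => by rw [pow_two]; exact h.exp a ha⟩

theorem inv_ctr {z : G} (hz : z ∈ ctr S) : z⁻¹ = z := inv_eq_of_mul_eq_one_right (h.exp z hz)

theorem comm_mem {s t : G} (hs : s ∈ S) (ht : t ∈ S) : s * t * s⁻¹ * t⁻¹ ∈ ctr S := by
  have hbs : Commute (t * t) s := commute_ctr (h.sq t ht) hs
  rw [show s * t * s⁻¹ * t⁻¹ = s * t * (s * t) * (t⁻¹ * (s * s)⁻¹ * t⁻¹) by group,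
    show t⁻¹ * (s * s)⁻¹ * t⁻¹ = (s * s)⁻¹ * (t * t)⁻¹ by
      have e : Commute (s * s)⁻¹ t := (commute_ctr (h.sq s hs) ht).inv_left
      rw [mul_inv_rev t t, ← mul_assoc, e.inv_right.eq]]
  exact mul_mem (h.sq _ (mul_mem hs ht)) (mul_mem (inv_mem (h.sq s hs)) (inv_mem (h.sq t ht)))

theorem exists_notMem_ctr : ∃ x ∈ S, x ∉ ctr S := by
  obtain ⟨x, hx, -, -, h1, -, -⟩ := h.two_squares
  exact ⟨x, hx, fun hc => h1 (h.exp x hc)⟩

theorem sq_ne_one {x : G} (hx : x ∈ S) (hxc : x ∉ ctr S) : x * x ≠ 1 := fun e => hxc (h.invol x hx e)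

theorem not_comm : ¬ ∀ a ∈ S, ∀ b ∈ S, a * b = b * a := fun hab => by
  obtain ⟨x, hx, hxc⟩ := h.exists_notMem_ctr
  exact hxc ((mem_ctr hx).2 fun s hs => hab s hs x hx)

/-- Commutation with a noncentral element. -/
def commHom {x : G} (hx : x ∈ S) : ↥S →* ↥(ctr S) where
  toFun s := ⟨(s : G) * x * (s : G)⁻¹ * x⁻¹, h.comm_mem s.2 hx⟩
  map_one' := Subtype.ext (show (1 : G) * x * (1 : G)⁻¹ * x⁻¹ = 1 by group)
  map_mul' a b := Subtype.ext (by
    show (a : G) * b * x * ((a : G) * b)⁻¹ * x⁻¹ =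
      (a : G) * x * (a : G)⁻¹ * x⁻¹ * ((b : G) * x * (b : G)⁻¹ * x⁻¹)
    set c := (b : G) * x * (b : G)⁻¹ * x⁻¹
    have hc : Commute c ((a : G) * x * (a : G)⁻¹ * x⁻¹) :=
      commute_ctr (h.comm_mem b.2 hx) (ctr_le (h.comm_mem a.2 hx))
    rw [← hc.eq, ← show (a : G) * c * (a : G)⁻¹ = c by
      rw [← (commute_ctr (h.comm_mem b.2 hx) a.2).eq, mul_inv_cancel_right]]
    simp only [c]
    group)

theorem card_cent [Finite G] {x : G} (hx : x ∈ S) (hxc : x ∉ ctr S) :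
    Nat.card ↥(S ⊓ centralizer ({x} : Set G)) = (2 ^ n) ^ 2 := by
  have hs : Function.Surjective (h.commHom hx) := fun z => by
    obtain ⟨s, hs, e⟩ := h.full x hx hxc z z.2
    refine ⟨⟨s, hs⟩, Subtype.ext ?_⟩
    show s * x * s⁻¹ * x⁻¹ = z
    rw [e, ← (commute_ctr z.2 hx).eq, mul_inv_cancel_right]
  have hk : (h.commHom hx).ker.map S.subtype = S ⊓ centralizer ({x} : Set G) := by
    ext g
    constructor
    · rintro ⟨s, hs', rfl⟩
      refine mem_inf.2 ⟨s.2, mem_centralizer_singleton_iff.2 ?_⟩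
      exact mul_inv_eq_iff_eq_mul.1 (mul_inv_eq_one.1 (congrArg Subtype.val hs'))
    · rintro ⟨hg, hgc⟩
      refine ⟨⟨g, hg⟩, Subtype.ext ?_, rfl⟩
      show g * x * g⁻¹ * x⁻¹ = 1
      rw [mem_centralizer_singleton_iff.1 hgc, mul_inv_cancel_right, mul_inv_cancel]
  rw [← hk, card_map_of_injective S.subtype_injective]
  have h1 := card_mul_index (h.commHom hx).ker
  rw [index_ker, MonoidHom.range_eq_top.2 hs, Subgroup.card_top, h.card_ctr, h.card, pow_succ] at h1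
  exact mul_right_cancel₀ (by positivity) h1

end UType

section Fusion

variable [Finite G] {S : Sylow 2 G} (h : UType (S : Subgroup G) n)
include h

theorem UType.sylow (T : Sylow 2 G) : UType (T : Subgroup G) n := h.of_equiv (S.equiv T)

omit h in
/-- An element normalising `S` normalises its centre. -/
theorem conj_mem_ctr {g z : G} (hg : g ∈ normalizer ((S : Subgroup G) : Set G))
    (hz : z ∈ ctr (S : Subgroup G)) : g * z * g⁻¹ ∈ ctr (S : Subgroup G) := by
  refine (mem_ctr ((mem_normalizer_iff.1 hg z).1 (ctr_le hz))).2 fun s hs => ?_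
  have h1 := commute_ctr hz ((mem_normalizer_iff''.1 hg s).1 hs)
  calc s * (g * z * g⁻¹) = g * (g⁻¹ * s * g * z) * g⁻¹ := by group
    _ = g * (z * (g⁻¹ * s * g)) * g⁻¹ := by rw [h1.eq]
    _ = g * z * g⁻¹ * s := by group

/-- A 2-element is conjugate into `S`. -/
theorem exists_conj_mem_sylow {M : Subgroup G} (hSM : (S : Subgroup G) ≤ M) {t : G} (ht : t ∈ M)
    {k : ℕ} (hk : t ^ 2 ^ k = 1) : ∃ m ∈ M, m * t * m⁻¹ ∈ (S : Subgroup G) := by
  haveI : Fact (Nat.Prime 2) := ⟨Nat.prime_two⟩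
  obtain ⟨m, hm, hle⟩ := Transfer.Fusion.exists_conj_le_of_isPGroup S hSM (SEAbelian.isPGroup_zpowers hk)
    (zpowers_le.2 ht)
  exact ⟨m, hm, hle (Transfer.Fusion.conj_mem_map_conj (mem_zpowers t) m)⟩

/-- An involution is conjugate into the centre of `S`. -/
theorem UType.exists_conj_ctr {M : Subgroup G} (hSM : (S : Subgroup G) ≤ M) {t : G} (ht : t ∈ M)
    (ht2 : t * t = 1) : ∃ m ∈ M, m * t * m⁻¹ ∈ ctr (S : Subgroup G) := by
  obtain ⟨m, hm, hS⟩ := exists_conj_mem_sylow h hSM ht (k := 1) (by rw [pow_one, pow_two, ht2])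
  exact ⟨m, hm, h.invol _ hS (by
    rw [show m * t * m⁻¹ * (m * t * m⁻¹) = m * (t * t) * m⁻¹ by group, ht2, mul_one, mul_inv_cancel])⟩

omit h in
/-- Fusion of the centre is done by the normaliser. -/
theorem exists_normalizer_conj {u w g : G} (hu : u ∈ ctr (S : Subgroup G)) (hw : w ∈ ctr (S : Subgroup G))
    (hg : g * u * g⁻¹ = w) : ∃ m ∈ normalizer ((S : Subgroup G) : Set G), m * u * m⁻¹ = w := by
  haveI : Fact (Nat.Prime 2) := ⟨Nat.prime_two⟩
  have hc : ∀ v ∈ ctr (S : Subgroup G), v ∈ centralizer ((S : Subgroup G) : Set G) := fun v hv =>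
    mem_centralizer_iff.2 fun s hs => (mem_ctr (ctr_le hv)).1 hv s hs
  obtain ⟨m, hm, he⟩ := S.conj_eq_normalizer_conj_of_mem_centralizer u g⁻¹ (hc u hu)
    (by rw [inv_inv, hg]; exact hc w hw)
  rw [inv_inv, hg] at he
  exact ⟨m⁻¹, inv_mem hm, by rw [inv_inv]; exact he.symm⟩

/-- No involution of the centre is fused to its product with a central one. -/
theorem UType.not_translate {u z g : G} (hu : u ∈ ctr (S : Subgroup G)) (hz : z ∈ ctr (S : Subgroup G))
    (hzc : z ∈ center G) (hg : g * u * g⁻¹ = u * z) : z = 1 := by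
  obtain ⟨m, hm, he⟩ := exists_normalizer_conj hu (mul_mem hu hz) hg
  obtain ⟨j, k, hk, hmk⟩ := SEAbelian.exists_parts m
  have hmS : m ^ k ∈ (S : Subgroup G) := SEAbelian.mem_sylow_of_normalizer S (pow_mem hm k) (k := j)
    (by rw [← pow_mul, mul_comm, hmk])
  have hiter : ∀ i : ℕ, m ^ i * u * (m ^ i)⁻¹ = u * z ^ i := by
    intro i
    induction i with
    | zero => simp
    | succ i ih =>
      calc m ^ (i + 1) * u * (m ^ (i + 1))⁻¹ = m * (m ^ i * u * (m ^ i)⁻¹) * m⁻¹ := by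
            rw [pow_succ']; group
        _ = m * (u * z ^ i) * m⁻¹ := by rw [ih]
        _ = (m * u * m⁻¹) * z ^ i := by
            rw [show m * (u * z ^ i) * m⁻¹ = (m * u) * (z ^ i * m⁻¹) by group,
              ← mem_center_iff.1 (pow_mem hzc i) m⁻¹]
            group
        _ = u * z ^ (i + 1) := by rw [he, pow_succ', mul_assoc]
  have h1 := hiter k
  rw [← (commute_ctr hu hmS).eq, mul_inv_cancel_right] at h1
  obtain ⟨l, rfl⟩ := hk
  rw [pow_succ, pow_mul, pow_two, h.exp z hz, one_pow, one_mul] at h1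
  exact mul_eq_left.1 h1.symm

end Fusion

end Cfsg.Agent.SECoreTwoClosed
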