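import Cfsg.Agent.S0283
import Cfsg.Agent.S0205
import Cfsg.Agent.OddLocal.PLength
import Cfsg.Agent.Lib.UFourType.Reduction
import Cfsg.Agent.Lib.SECore.NoBadBasic
import Cfsg.Agent.Lib.SolvableSignalizer.Connected
import Cfsg.Agent.Lib.SECoreTwoClosed.UThree.Basic

/-!
# The minimal situation for the theorem on Sylow 2-subgroups of type `U₃(2^n)`
-/

set_option autoImplicit false
set_option linter.style.haveILetI false
set_option linter.unusedSectionVars false

namespace Cfsg.Agent.SECoreTwoClosed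

open Subgroup
open Cfsg.Agent.Involutions

universe u v

/-- The unitary alternative. -/
def UAlt (n : ℕ) (F : Type v) [Field F] [Fintype F] (G : Type u) [Group G] : Prop :=
  ∃ N : Subgroup (G ⧸ Cfsg.oddCore G), N.Normal ∧ Odd N.index ∧
    Nonempty (↥N ≃* Cfsg.PSU 3 F (2 ^ n))

/-- What is proved by induction. -/
def Goal (n : ℕ) (F : Type v) [Field F] [Fintype F] (G : Type u) [Group G] : Prop :=
  Cfsg.PLengthLE 2 1 G ∨ UAlt n F G

theorem isSolvable_of_pLengthLE {G : Type u} [Group G] [Finite G] (h : Cfsg.PLengthLE 2 1 G) :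
    Group.IsSolvable G := by
  haveI : Fact (Nat.Prime 2) := ⟨Nat.prime_two⟩
  obtain ⟨S⟩ : Nonempty (Sylow 2 G) := inferInstance
  haveI hO : Group.IsSolvable ↥(Cfsg.pPrimeCore 2 G) :=
    Cfsg.Agent.S0205.result (Nat.coprime_two_right.1 PLocal.Cores.coprime_card_pPrimeCore)
  set U := Cfsg.pPrimePCore 2 G
  haveI : Group.IsSolvable (G ⧸ U) :=
    Cfsg.Agent.S0205.result (Nat.coprime_two_right.1 (OddLocal.pLengthLE_one_iff.mp h))
  haveI hU : Group.IsSolvable ↥U := by
    obtain ⟨k, hk⟩ := PLocal.Cores.relIndex_pPrimePCore (G := G) (p := 2)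
    set f := QuotientGroup.mk' ((Cfsg.pPrimeCore 2 G).subgroupOf U)
    haveI : Group.IsNilpotent (↥U ⧸ (Cfsg.pPrimeCore 2 G).subgroupOf U) :=
      (IsPGroup.of_card (p := 2) (n := k) (show Nat.card (↥U ⧸ (Cfsg.pPrimeCore 2 G).subgroupOf U) = 2 ^ k
        from hk)).isNilpotent
    haveI : Group.IsSolvable ↥((Cfsg.pPrimeCore 2 G).subgroupOf U) :=
      Group.isSolvable_of_isSolvable_injective (f := (subgroupOfEquivOfLe
        PLocal.Cores.pPrimeCore_le_pPrimePCore).toMonoidHom) (MulEquiv.injective _)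
    exact Group.isSolvable_of_ker_le_range ((Cfsg.pPrimeCore 2 G).subgroupOf U).subtype f
      (by rw [QuotientGroup.ker_mk', range_subtype])
  exact Group.isSolvable_of_ker_le_range U.subtype (QuotientGroup.mk' U)
    (by rw [QuotientGroup.ker_mk', range_subtype])

/-- A group with a Sylow subgroup of this type in which a central involution exists is not unitary. -/
theorem not_uAlt {n : ℕ} {F : Type v} [Field F] [Fintype F] (hn : 3 ≤ n) (hF : Fintype.card F = 4 ^ n)
    {C : Type u} [Group C] [Finite C] {t : C} (ht : orderOf t = 2) (htc : t ∈ center C) :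
    ¬ UAlt n F C := by
  haveI : Fact (Nat.Prime 2) := ⟨Nat.prime_two⟩
  rintro ⟨N, hNn, hNo, ⟨e⟩⟩
  set π := QuotientGroup.mk' (Cfsg.oddCore C)
  have hF2 : Fintype.card F = (2 ^ n) ^ 2 := by
    rw [hF, ← pow_mul, mul_comm, pow_mul]; norm_num
  haveI : IsSimpleGroup (Cfsg.PSU 3 F (2 ^ n)) := Cfsg.Agent.S0283.result hF2 3 le_rfl fun hc => by
    have := Nat.pow_le_pow_right (show 1 ≤ 2 by norm_num) hn
    omega
  haveI : Nontrivial ↥N := e.toEquiv.nontrivial
  haveI : IsSimpleGroup ↥N := IsSimpleGroup.isSimpleGroup_of_surjective e.symm.toMonoidHom e.symm.surjective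
  have h1 : π t ∈ N := by
    rw [← QuotientGroup.eq_one_iff]
    have h2 : orderOf ((π t : C ⧸ Cfsg.oddCore C) : _ ⧸ N) ∣ 2 :=
      orderOf_dvd_of_pow_eq_one (by
        rw [← QuotientGroup.mk_pow, ← map_pow, ← ht, pow_orderOf_eq_one, map_one, QuotientGroup.mk_one])
    refine orderOf_eq_one_iff.1 ((Nat.dvd_prime Nat.prime_two).1 h2 |>.resolve_right fun h3 => ?_)
    have h4 : orderOf ((π t : C ⧸ Cfsg.oddCore C) : _ ⧸ N) ∣ N.index := _root_.orderOf_dvd_natCard _
    rw [h3] at h4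
    exact Nat.not_even_iff_odd.2 hNo (even_iff_two_dvd.2 h4)
  have hne : π t ≠ 1 := fun e1 => by
    have := SECore.odd_orderOf_of_mem (Agent.Cores.oddCore_odd (G := C)) ((QuotientGroup.eq_one_iff t).1 e1)
    rw [ht] at this
    exact absurd this (by decide)
  have hzc : (⟨π t, h1⟩ : ↥N) ∈ center ↥N := mem_center_iff.2 fun x => Subtype.ext (by
    obtain ⟨y, hy⟩ := QuotientGroup.mk'_surjective (Cfsg.oddCore C) (x : C ⧸ Cfsg.oddCore C)
    show (x : C ⧸ Cfsg.oddCore C) * π t = π t * x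
    rw [← hy, ← map_mul, ← map_mul, mem_center_iff.1 htc y])
  rcases IsSimpleGroup.eq_bot_or_eq_top_of_normal (center ↥N) inferInstance with h0 | h0
  · rw [h0, mem_bot] at hzc
    exact hne (congrArg Subtype.val hzc)
  · obtain ⟨P⟩ : Nonempty (Sylow 2 (Cfsg.PSU 3 F (2 ^ n))) := inferInstance
    refine (uType_of_psu hn hF (P : Subgroup (Cfsg.PSU 3 F (2 ^ n))) P (MulEquiv.refl _)).not_comm
      fun a _ b _ => e.symm.injective ?_
    rw [map_mul, map_mul]
    exact (mem_center_iff.1 (h0 ▸ mem_top (e.symm a) : e.symm a ∈ center ↥N) _).symm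

/-- A reduced group all of whose proper overgroups of the Sylow subgroup satisfy the theorem. -/
structure Min {G : Type u} [Group G] (F : Type v) [Field F] [Fintype F] (S : Sylow 2 G) (n : ℕ) : Prop where
  field_card : Fintype.card F = 4 ^ n
  type : UType (S : Subgroup G) n
  core : Cfsg.oddCore G = ⊥
  reduced : ∀ N : Subgroup G, N.Normal → Odd N.index → N = ⊤
  ih : ∀ X : Subgroup G, X ≠ ⊤ → (S : Subgroup G) ≤ X → Goal n F ↥X

variable {G : Type u} [Group G] [Finite G] {S : Sylow 2 G} {n : ℕ}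

theorem sylow_le_cent {u : G} (hu : u ∈ ctr (S : Subgroup G)) :
    (S : Subgroup G) ≤ centralizer ({u} : Set G) := fun _ hs =>
  mem_centralizer_singleton_iff.2 (commute_ctr hu hs).symm.eq

theorem centralizer_mul_center {c x : G} (hc : c ∈ center G) :
    centralizer ({c * x} : Set G) = centralizer ({x} : Set G) := by
  ext g
  rw [mem_centralizer_singleton_iff, mem_centralizer_singleton_iff, ← mul_assoc g,
    mem_center_iff.1 hc g, mul_assoc, mul_assoc, mul_right_inj]

variable {F : Type v} [Field F] [Fintype F] (M : Min F S n)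
include M

theorem Min.pLength_cent {u : G} (hu : u ∈ ctr (S : Subgroup G)) (huc : u ∉ center G) :
    Cfsg.PLengthLE 2 1 ↥(centralizer ({u} : Set G)) := by
  have hu1 : u ≠ 1 := fun e => huc (e ▸ one_mem _)
  refine (M.ih _ (fun e => huc (mem_center_iff.2 fun g =>
    mem_centralizer_singleton_iff.1 ((eq_top_iff' _).1 e g)))
    (sylow_le_cent hu)).resolve_right ?_
  refine not_uAlt M.type.three_le M.field_card (t := ⟨u, mem_centralizer_singleton_iff.2 rfl⟩) ?_ ?_
  · rw [Subgroup.orderOf_mk]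
    exact Basic.orderOf_two_iff.2 ⟨M.type.exp u hu, hu1⟩
  · exact mem_center_iff.2 fun g => Subtype.ext (mem_centralizer_singleton_iff.1 g.2)

theorem Min.solvable_cent {u : G} (hu : u ∈ ctr (S : Subgroup G)) (huc : u ∉ center G) :
    Group.IsSolvable ↥(centralizer ({u} : Set G)) :=
  isSolvable_of_pLengthLE (M.pLength_cent hu huc)

/-- The centralizer of a noncentral involution is its core times a part of the normaliser of `S`. -/
theorem Min.exists_cent_mul {u g : G} (hu : u ∈ ctr (S : Subgroup G)) (huc : u ∉ center G)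
    (hg : g ∈ centralizer ({u} : Set G)) :
    ∃ w ∈ Cfsg.centralizerPPrimeCore 2 u, ∃ m ∈ normalizer ((S : Subgroup G) : Set G), w * m = g := by
  haveI : Fact (Nat.Prime 2) := ⟨Nat.prime_two⟩
  set C := centralizer ({u} : Set G)
  set T := S.subtype (sylow_le_cent hu)
  have h1 : (⟨g, hg⟩ : C) ∈ Cfsg.pPrimeCore 2 C ⊔ normalizer ((T : Subgroup C) : Set C) := by
    rw [OddLocal.pPrimeCore_sup_normalizer (M.pLength_cent hu huc) T]
    exact mem_top _
  obtain ⟨w, hw, m, hm, e⟩ := Subgroup.mem_sup_of_normal_left.1 h1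
  refine ⟨(w : G), ⟨w, hw, rfl⟩, (m : G), mem_normalizer_fintype fun s hs => ?_, congrArg Subtype.val e⟩
  exact (mem_normalizer_iff.1 hm ⟨s, sylow_le_cent hu hs⟩).1 hs

theorem Min.cent_le {X : Subgroup G} {u : G} (hu : u ∈ ctr (S : Subgroup G)) (huc : u ∉ center G)
    (hN : normalizer ((S : Subgroup G) : Set G) ≤ X) (hθ : Cfsg.centralizerPPrimeCore 2 u ≤ X) :
    centralizer ({u} : Set G) ≤ X := fun g hg => by
  obtain ⟨w, hw, m, hm, rfl⟩ := M.exists_cent_mul hu huc hg
  exact mul_mem (hθ hw) (hN hm)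

theorem Min.mem_center_of_fixed {u : G} (hu : u ∈ ctr (S : Subgroup G))
    (hfix : ∀ m ∈ normalizer ((S : Subgroup G) : Set G), m * u * m⁻¹ = u) : u ∈ center G := by
  by_cases hu1 : u = 1
  · exact hu1 ▸ one_mem _
  exact ZStar.Main.mem_center_of_isolated M.core (UFourType.isolated_of_fixed S ctr_le
    (fun v hv s hs => (commute_ctr hv hs).eq) M.type.invol hu
    (Basic.orderOf_two_iff.2 ⟨M.type.exp u hu, hu1⟩) hfix)

/-- The part of the centre moved by the normaliser. -/
theorem Min.exists_moved : ∃ Z1 : Subgroup G, Z1 ≤ ctr (S : Subgroup G) ∧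
    normalizer ((S : Subgroup G) : Set G) ≤ normalizer (Z1 : Set G) ∧ Z1 ⊓ center G = ⊥ ∧
    ∀ u ∈ ctr (S : Subgroup G), ∃ c ∈ ctr (S : Subgroup G), c ∈ center G ∧ ∃ x ∈ Z1, c * x = u := by
  haveI : Fact (Nat.Prime 2) := ⟨Nat.prime_two⟩
  set N := normalizer ((S : Subgroup G) : Set G)
  set S' := (S : Subgroup G).subgroupOf N
  haveI : S'.Normal := Subgroup.normal_in_normalizer
  obtain ⟨k, hk⟩ := IsPGroup.iff_card.1 S.2
  have hcS : Nat.card ↥S' = 2 ^ k := by
    rw [Nat.card_congr (subgroupOfEquivOfLe le_normalizer).toEquiv, hk]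
  have hidx : ¬ 2 ∣ S'.index := fun hd =>
    S.not_dvd_index (hd.trans (relIndex_dvd_index_of_le le_normalizer))
  obtain ⟨K', hK'⟩ := Subgroup.exists_right_complement'_of_coprime (N := S') (by
    rw [hcS]
    exact ((Nat.prime_two.coprime_iff_not_dvd.2 hidx)).pow_left k)
  set K := K'.map N.subtype
  set Z := ctr (S : Subgroup G)
  have hKodd : Odd (Nat.card ↥K) := by
    rw [card_map_of_injective N.subtype_injective]
    have h1 := hK'.index_eq_card
    rw [Nat.odd_iff, ← Nat.two_dvd_ne_zero]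
    intro hd
    exact hidx (by
      have h2 := hK'.card_mul_card
      have h3 := card_mul_index S'
      have h4 : S'.index = Nat.card ↥K' := mul_left_cancel₀ Nat.card_pos.ne' (h3.trans h2.symm)
      rwa [h4])
  have hKN : K ≤ N := map_subtype_le _
  have hNZ : N ≤ normalizer (Z : Set G) := fun g hg => mem_normalizer_fintype fun z hz => conj_mem_ctr hg hz
  have hdec : ∀ m ∈ N, ∃ s ∈ (S : Subgroup G), ∃ a ∈ K, m = s * a := fun m hm => by
    obtain ⟨⟨s, a⟩, hsa⟩ := hK'.surjective ⟨m, hm⟩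
    exact ⟨(s.1 : G), s.2, (a.1 : G), ⟨a.1, a.2, rfl⟩, (congrArg Subtype.val hsa).symm⟩
  haveI : IsMulCommutative ↥Z := ⟨⟨fun a b => Subtype.ext (commute_ctr a.2 (ctr_le b.2)).eq⟩⟩
  obtain ⟨l, hl⟩ := IsPGroup.iff_card.1 (S.2.to_le (ctr_le (S := (S : Subgroup G))))
  have hcop : (Nat.card ↥K).Coprime (Nat.card ↥Z) := by
    rw [hl]; exact (Nat.coprime_two_right.2 hKodd).pow_right l
  have hKZ : K ≤ normalizer (Z : Set G) := hKN.trans hNZ
  have hfix : ∀ c ∈ Z ⊓ centralizer (K : Set G), c ∈ center G := fun c hc =>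
    M.mem_center_of_fixed hc.1 fun m hm => by
      obtain ⟨s, hs, a, ha, rfl⟩ := hdec m hm
      rw [show s * a * c * (s * a)⁻¹ = s * (a * c * a⁻¹) * s⁻¹ by group,
        mem_centralizer_iff.1 hc.2 a ha, mul_inv_cancel_right, ← (commute_ctr hc.1 hs).eq,
        mul_inv_cancel_right]
  refine ⟨⁅Z, K⁆, Coprime.commutator_le_of_le_normalizer hKZ, fun m hm => ?_, ?_, fun u hu => ?_⟩
  · obtain ⟨s, hs, a, ha, rfl⟩ := hdec m hm
    refine mul_mem (mem_normalizer_fintype fun x hx => ?_)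
      (Subgroup.normalizer_commutator_ge_right Z K ha)
    have hxZ := Coprime.commutator_le_of_le_normalizer hKZ hx
    rw [← (commute_ctr hxZ hs).eq, mul_inv_cancel_right]
    exact hx
  · rw [eq_bot_iff, ← Coprime.inf_centralizer_inf_commutator hKZ hcop]
    exact fun x hx => ⟨⟨Coprime.commutator_le_of_le_normalizer hKZ hx.1,
      mem_centralizer_iff.2 fun a _ => mem_center_iff.1 hx.2 a⟩, hx.1⟩
  · obtain ⟨c, hc, x, hx, e⟩ := Coprime.exists_eq_centralizer_mul_commutator hKZ hcop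
      (Or.inr (Group.isSolvable_of_comm fun a b => Subtype.ext (commute_ctr a.2 (ctr_le b.2)).eq)) hu
    exact ⟨c, hc.1, hfix c hc, x, hx, e.symm⟩

/-- A subgroup containing the normaliser of `S` and the centralizers of the noncentral involutions of
the centre contains every element carrying one of its noncentral involutions into it. -/
theorem Min.mem_of_conj {X : Subgroup G} (hN : normalizer ((S : Subgroup G) : Set G) ≤ X)
    (hC : ∀ u ∈ ctr (S : Subgroup G), u ∉ center G → centralizer ({u} : Set G) ≤ X)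
    {t g : G} (ht : t ∈ X) (ht2 : t * t = 1) (htc : t ∉ center G) (hgt : g * t * g⁻¹ ∈ X) : g ∈ X := by
  have hSX : (S : Subgroup G) ≤ X := le_normalizer.trans hN
  obtain ⟨m, hm, hu⟩ := M.type.exists_conj_ctr hSX ht ht2
  obtain ⟨m', hm', hu'⟩ := M.type.exists_conj_ctr hSX hgt (by
    rw [show g * t * g⁻¹ * (g * t * g⁻¹) = g * (t * t) * g⁻¹ by group, ht2, mul_one, mul_inv_cancel])
  obtain ⟨k, hk, he⟩ := exists_normalizer_conj hu hu' (g := m' * g * m⁻¹) (by group)
  have huc : m * t * m⁻¹ ∉ center G := fun hc => htc (by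
    have := mem_center_iff.1 hc m⁻¹
    rwa [show t = m⁻¹ * (m * t * m⁻¹) * m by group, this, mul_assoc, inv_mul_cancel, mul_one])
  have h1 : k⁻¹ * (m' * g * m⁻¹) ∈ X := hC _ hu huc (mem_centralizer_singleton_iff.2 (mul_inv_eq_iff_eq_mul.1
    (calc k⁻¹ * (m' * g * m⁻¹) * (m * t * m⁻¹) * (k⁻¹ * (m' * g * m⁻¹))⁻¹
        = k⁻¹ * (m' * (g * t * g⁻¹) * m'⁻¹) * k := by group
      _ = m * t * m⁻¹ := by rw [← he]; group)))
  rw [show g = m'⁻¹ * (k * (k⁻¹ * (m' * g * m⁻¹))) * m by group]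
  exact mul_mem (mul_mem (inv_mem hm') (mul_mem (hN hk) h1)) hm

end Cfsg.Agent.SECoreTwoClosed
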