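import Cfsg.Agent.S0205
import Cfsg.Agent.S0217
import Cfsg.Agent.Lib.SolvableSignalizer.Connected
import Cfsg.Agent.Lib.Components.Balance
import Cfsg.Agent.Lib.Cores.Basic
import Cfsg.Agent.Lib.SEAbelian.ReduceTools

/-!
# The cores of solvable centralizers of the involutions of an elementary group of order at least eight
-/

set_option autoImplicit false
set_option linter.style.haveILetI false
set_option linter.unusedSectionVars false

namespace Cfsg.Agent.SECoreTwoClosed

open Subgroup
open Cfsg.Agent.SolvableSignalizer (joinOn)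

universe u

variable {G : Type u} [Group G] [Finite G]

/-- The cores of the centralizers. -/
noncomputable abbrev tht (a : G) : Subgroup G := Cfsg.centralizerPPrimeCore 2 a

theorem odd_tht (a : G) : Odd (Nat.card ↥(tht a)) :=
  Nat.coprime_two_right.1 (Components.Balance.centralizerPPrimeCore_coprime 2 a)

theorem tht_congr {a b : G} (h : centralizer ({a} : Set G) = centralizer ({b} : Set G)) :
    tht a = tht b :=
  congrArg (fun C : Subgroup G => (Cfsg.pPrimeCore 2 ↥C).map C.subtype) h

theorem tht_le_join {A : Subgroup G} {a : G} (ha : a ∈ A) (ha1 : a ≠ 1) : tht a ≤ joinOn tht A :=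
  le_iSup (fun e : {e : G // e ∈ A ∧ e ≠ 1} => tht (e : G)) ⟨a, ha, ha1⟩

/-- A normaliser of `A` normalises the join. -/
theorem normalizer_le_join (A : Subgroup G) :
    normalizer (A : Set G) ≤ normalizer (joinOn tht A : Set G) := by
  intro g hg
  have hle : ∀ k ∈ normalizer (A : Set G),
      (joinOn tht A).map (MulAut.conj k).toMonoidHom ≤ joinOn tht A := by
    intro k hk
    rw [joinOn, Subgroup.map_iSup]
    refine iSup_le fun e => ?_
    rw [← SolvableSignalizer.centralizerPPrimeCore_conj]
    exact tht_le_join ((mem_normalizer_iff.1 hk _).1 e.2.1) fun h => e.2.2 (conj_eq_one_iff.1 h)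
  exact mem_normalizer_fintype fun x hx => hle g hg (mem_map_of_mem _ hx)

variable {A : Subgroup G} (hA : Cfsg.IsElementaryAbelian 2 A) (h8 : 8 ≤ Nat.card ↥A)
  (hsol : ∀ a ∈ A, a ≠ 1 → Group.IsSolvable ↥(centralizer ({a} : Set G)))
include hA hsol

theorem functor_tht : Cfsg.IsSolvableSignalizerFunctor 2 A tht := by
  haveI : Fact (Nat.Prime 2) := ⟨Nat.prime_two⟩
  obtain ⟨hc, he⟩ := PLocal.ThompsonSubgroup.isElementaryAbelian_iff.mp hA
  refine ⟨⟨fun a _ _ => Components.Balance.centralizerPPrimeCore_le_centralizer 2 a,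
    fun a _ _ => Nat.prime_two.coprime_iff_not_dvd.1 (Components.Balance.centralizerPPrimeCore_coprime 2 a).symm,
    fun a ha _ b hb x hx => ?_, fun a ha _ b hb hb1 => ?_⟩, fun a _ _ => Cfsg.Agent.S0205.result (odd_tht a)⟩
  · exact (mem_normalizer_iff.1 (Components.Balance.le_normalizer_centralizerPPrimeCore 2 a
      (mem_centralizer_singleton_iff.2 (hc b hb a ha))) x).1 hx
  · haveI := hsol b hb hb1
    exact Components.Balance.centralizerPPrimeCore_inf_le
      (SEAbelian.isPGroup_zpowers (k := 1) (by rw [pow_one]; exact he a ha)) (hc a ha b hb)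
      Components.Balance.pLayer_eq_bot_of_isSolvable

include h8

theorem odd_join : Odd (Nat.card ↥(joinOn tht A)) := by
  haveI : Fact (Nat.Prime 2) := ⟨Nat.prime_two⟩
  have hf := functor_tht hA hsol
  have h := (SolvableSignalizer.iSup_mem Nat.prime_two hA (by norm_num; exact h8) hf).2.1
  rw [Nat.odd_iff, ← Nat.two_dvd_ne_zero]
  exact h

theorem odd_join_of_le {V : Subgroup G} (hVA : V ≤ A) :
    Odd (Nat.card ↥(joinOn tht V)) := by
  haveI : Fact (Nat.Prime 2) := ⟨Nat.prime_two⟩
  have hle : joinOn tht V ≤ joinOn tht A :=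
    iSup_le fun e => tht_le_join (hVA e.2.1) e.2.2
  exact (odd_join hA h8 hsol).of_dvd_nat (card_dvd_of_le hle)

end Cfsg.Agent.SECoreTwoClosed
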