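import Cfsg.Agent.Lib.SECoreTwoClosed.UThree.Quot

/-!
# No proper controlling subgroup in the presence of a central involution
-/

set_option autoImplicit false
set_option linter.style.haveILetI false
set_option linter.unusedSectionVars false

namespace Cfsg.Agent.SECoreTwoClosed

open Subgroup
open Cfsg.Agent.Involutions

universe u v

variable {G : Type u} [Group G] [Finite G] {S : Sylow 2 G} {n : ℕ}
variable {F : Type v} [Field F] [Fintype F] (M : Min F S n)
include M

theorem Min.central_absurd {X : Subgroup G} (hXtop : X ≠ ⊤)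
    (hN : normalizer ((S : Subgroup G) : Set G) ≤ X)
    (hC : ∀ u ∈ ctr (S : Subgroup G), u ∉ center G → centralizer ({u} : Set G) ≤ X)
    (hY : ∀ y ∈ (S : Subgroup G), y ∉ ctr (S : Subgroup G) → y * y ∈ center G → cenY y ≤ X)
    {z : G} (hz : z ∈ ctr0 S) (hz1 : z ≠ 1) {u : G} (hu : u ∈ ctr (S : Subgroup G))
    (huc : u ∉ center G) : False := by
  have h := M.type
  have hSX : (S : Subgroup G) ≤ X := le_normalizer.trans hN
  set π := QuotientGroup.mk' (ctr0 S)
  set Xb := X.map π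
  have hsurj : Function.Surjective π := QuotientGroup.mk'_surjective _
  have hback : ∀ {g : G}, π g ∈ Xb → g ∈ X := fun {g} hg =>
    (SETwoClosed.mk_mem_map (H := X) (ctr0_le.trans (ctr_le.trans hSX))).1 hg
  have hord : ∀ {g : G}, g * g ∈ ctr0 S → g ∉ ctr0 S → orderOf (π g) = 2 := fun {g} h1 h2 =>
    Basic.orderOf_two_iff.2 ⟨by rw [← map_mul]; exact (QuotientGroup.eq_one_iff _).2 h1,
      fun e => h2 ((QuotientGroup.eq_one_iff g).1 e)⟩
  have hu2 : orderOf (π u) = 2 := hord (by rw [h.exp u hu]; exact one_mem _) fun hc => huc hc.2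
  have hse : Cfsg.IsStronglyEmbedded Xb := by
    refine StronglyEmbedded.of_conj (fun e => hXtop (eq_top_iff.2 fun g _ => hback ((eq_top_iff' _).1 e _)))
      ?_ fun t ht ht2 k hk => ?_
    · rw [even_iff_two_dvd, ← hu2]
      exact Subgroup.orderOf_dvd_natCard _ (mem_map_of_mem _ (hSX (ctr_le hu)))
    obtain ⟨g, hgX, rfl, m, hm, hmS, hg0, hgg, hcase⟩ := h.exists_lift_conj hSX ht ht2
    obtain ⟨k, rfl⟩ := hsurj k
    have hkg : k * g * k⁻¹ ∈ X := hback (by rw [map_mul, map_mul, map_inv]; exact hk)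
    refine mem_map_of_mem _ ?_
    rcases hcase with ⟨hg1, hgc, -⟩ | ⟨hxc, hxx⟩
    · exact M.mem_of_conj hN hC hgX hg1 hgc hkg
    · set x := m * g * m⁻¹
      have hg4 : (k * g * k⁻¹) ^ 2 ^ 2 = 1 := by
        rw [conj_pow, show (2 : ℕ) ^ 2 = 2 * 2 by norm_num, pow_mul, pow_two, pow_two, h.exp _ hgg.1,
          mul_one, mul_inv_cancel]
      obtain ⟨m', hm', hx'S⟩ := exists_conj_mem_sylow h hSX hkg hg4
      set g1 := m' * k * m⁻¹
      have hx' : g1 * x * g1⁻¹ = m' * (k * g * k⁻¹) * m'⁻¹ := by simp only [g1, x]; group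
      have hauy : g1⁻¹ * u * g1 ∈ cenY x := by
        rw [mem_cenY]
        have e : u * (g1 * x * g1⁻¹) = g1 * x * g1⁻¹ * u := (commute_ctr hu (hx' ▸ hx'S)).eq
        calc g1⁻¹ * u * g1 * x = g1⁻¹ * (u * (g1 * x * g1⁻¹)) * g1 := by group
          _ = g1⁻¹ * (g1 * x * g1⁻¹ * u) * g1 := by rw [e]
          _ = x * (g1⁻¹ * u * g1) := by group
      have hg1X : g1 ∈ X := by
        refine M.mem_of_conj hN hC (hY x hmS hxc hxx hauy) ?_ (fun hc => huc ?_) ?_
        · rw [show g1⁻¹ * u * g1 * (g1⁻¹ * u * g1) = g1⁻¹ * (u * u) * g1 by group, h.exp u hu, mul_one,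
            inv_mul_cancel]
        · have e1 := mem_center_iff.1 hc g1
          rwa [show u = g1 * (g1⁻¹ * u * g1) * g1⁻¹ by group, e1, mul_inv_cancel_right]
        · rw [show g1 * (g1⁻¹ * u * g1) * g1⁻¹ = u by group]
          exact hSX (ctr_le hu)
      rw [show k = m'⁻¹ * g1 * m by simp only [g1]; group]
      exact mul_mem (mul_mem (inv_mem hm') hg1X) hm
  obtain ⟨w, hwS, hwc⟩ := h.exists_notMem_ctr
  obtain ⟨y, hy, -, hyy⟩ := h.exists_root hwS hwc hz.1
  have hy2 : orderOf (π y) = 2 := hord (hyy.symm ▸ hz) fun hc => hz1 (hyy ▸ h.exp y hc.1)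
  obtain ⟨k, hk⟩ := isConj_iff.1 (StronglyEmbedded.isConj_involutions hse hu2 hy2)
  obtain ⟨k, rfl⟩ := hsurj k
  have hc : (k * u * k⁻¹)⁻¹ * y ∈ ctr0 S := QuotientGroup.eq.1 (by
    show π (k * u * k⁻¹) = π y
    rw [map_mul, map_mul, map_inv, hk])
  set c := (k * u * k⁻¹)⁻¹ * y
  apply hz1
  have hyc : y = k * u * k⁻¹ * c := (mul_inv_cancel_left _ _).symm
  calc z = y * y := hyy.symm
    _ = k * u * k⁻¹ * c * (k * u * k⁻¹ * c) := by rw [← hyc]
    _ = k * (u * u) * k⁻¹ * (c * c) := by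
        have e1 := mem_center_iff.1 (ctr0_le_center hc) (k * u * k⁻¹)
        rw [mul_assoc _ c, ← mul_assoc c, ← e1]
        group
    _ = 1 := by rw [h.exp u hu, h.exp c (ctr0_le hc)]; group

end Cfsg.Agent.SECoreTwoClosed
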