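import Cfsg.Agent.Lib.SEAbelian.ReduceSignalizer
import Cfsg.Agent.Lib.SECoreTwoClosed.UThree.Absurd
import Cfsg.Agent.Lib.SECoreTwoClosed.UThree.Signal

/-!
# The cases of the minimal situation by the part of the centre moved by the normaliser
-/

set_option autoImplicit false
set_option linter.style.haveILetI false
set_option linter.unusedSectionVars false

namespace Cfsg.Agent.SECoreTwoClosed

open Subgroup
open Cfsg.Agent.Involutions
open Cfsg.Agent.SolvableSignalizer (joinOn)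

universe u v

variable {G : Type u} [Group G] [Finite G] {S : Sylow 2 G} {n : ℕ}
variable {F : Type v} [Field F] [Fintype F] (M : Min F S n)
include M

/-- All involutions central: the Sylow subgroup is normal. -/
theorem Min.normal_of_central (hcen : ∀ u ∈ ctr (S : Subgroup G), u ∈ center G) :
    normalizer ((S : Subgroup G) : Set G) = ⊤ := by
  classical
  haveI : Fact (Nat.Prime 2) := ⟨Nat.prime_two⟩
  have h := M.type
  set π := QuotientGroup.mk' (ctr0 S)
  have hsurj : Function.Surjective π := QuotientGroup.mk'_surjective _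
  set Sb := S.mapSurjective hsurj
  have hker : ∀ {x : G}, π x = 1 ↔ x ∈ ctr0 S := fun {x} => QuotientGroup.eq_one_iff x
  have hz0 : ∀ {u : G}, u ∈ ctr (S : Subgroup G) → u ∈ ctr0 S := fun {u} hu => ⟨hu, hcen u hu⟩
  have hlift : ∀ q ∈ (Sb : Subgroup (G ⧸ ctr0 S)), ∃ s ∈ (S : Subgroup G), π s = q := fun q hq => hq
  have hexp : ∀ q ∈ (Sb : Subgroup (G ⧸ ctr0 S)), q * q = 1 := fun q hq => by
    obtain ⟨s, hs, rfl⟩ := hlift q hq
    rw [← map_mul, hker]
    exact hz0 (h.sq s hs)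
  have hcomm : ∀ p ∈ (Sb : Subgroup (G ⧸ ctr0 S)), ∀ q ∈ (Sb : Subgroup (G ⧸ ctr0 S)), p * q = q * p := by
    intro p hp q hq
    have hinv : ∀ r ∈ (Sb : Subgroup (G ⧸ ctr0 S)), r⁻¹ = r := fun r hr =>
      inv_eq_of_mul_eq_one_right (hexp r hr)
    rw [← hinv _ (mul_mem hp hq), mul_inv_rev, hinv p hp, hinv q hq]
  have hab : SEAbelian.AbTwo (G ⧸ ctr0 S) :=
    SEAbelian.abTwo_of_sylow Sb ⟨⟨fun a b => Subtype.ext (hcomm a a.2 b b.2)⟩⟩
  have hA : Cfsg.IsElementaryAbelian 2 (Sb : Subgroup (G ⧸ ctr0 S)) :=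
    PLocal.ThompsonSubgroup.isElementaryAbelian_iff.mpr ⟨hcomm, fun q hq => by rw [pow_two]; exact hexp q hq⟩
  have h8 : 8 ≤ Nat.card ↥(Sb : Subgroup (G ⧸ ctr0 S)) := by
    have h1 : Nat.card ↥(S : Subgroup G) ≤
        Nat.card ↥(ctr (S : Subgroup G)) * Nat.card ↥(Sb : Subgroup (G ⧸ ctr0 S)) := by
      set f := π.subgroupMap (S : Subgroup G)
      rw [← card_mul_index f.ker, index_ker, MonoidHom.range_eq_top.2 (π.subgroupMap_surjective _),
        Subgroup.card_top]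
      refine Nat.mul_le_mul_right _ (Nat.card_le_card_of_injective
        (fun s => ⟨((s : ↥(S : Subgroup G)) : G), (hker.1 (congrArg Subtype.val s.2 :)).1⟩)
        fun a b e => Subtype.ext (Subtype.ext (congrArg Subtype.val e :)))
    rw [h.card, h.card_ctr, pow_succ' (2 ^ n)] at h1
    have h2 := Nat.le_of_mul_le_mul_left h1 (Nat.two_pow_pos n)
    have h3 : 8 ≤ 2 ^ n := le_trans (by norm_num) (Nat.pow_le_pow_right (by norm_num) h.three_le)
    nlinarith
  have hsolroot : ∀ y ∈ (S : Subgroup G), y ∉ ctr (S : Subgroup G) → y * y ∈ center G →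
      Group.IsSolvable ↥(cenY y) := fun y hy hyc hy2 =>
    M.solvable_cenY hy hyc hy2 (Z1 := ⊥)
      (fun u hu => ⟨u, hu, hcen u hu, 1, one_mem _, mul_one u⟩) (by rw [card_bot]; norm_num)
  have hsol : ∀ q ∈ (Sb : Subgroup (G ⧸ ctr0 S)), q ≠ 1 →
      Group.IsSolvable ↥(centralizer ({q} : Set (G ⧸ ctr0 S))) := fun q hq hq1 =>
    M.solvable_cent_quot hsolroot (Basic.orderOf_two_iff.2 ⟨hexp q hq, hq1⟩)
  -- a subgroup controlling the centralizers is everything
  have key : ∀ Xb : Subgroup (G ⧸ ctr0 S),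
      normalizer ((Sb : Subgroup (G ⧸ ctr0 S)) : Set (G ⧸ ctr0 S)) ≤ Xb →
      (∀ q ∈ (Sb : Subgroup (G ⧸ ctr0 S)), q ≠ 1 → centralizer ({q} : Set (G ⧸ ctr0 S)) ≤ Xb) →
      Xb = ⊤ := by
    intro Xb hN hC
    by_contra htop
    have hSX : (Sb : Subgroup (G ⧸ ctr0 S)) ≤ Xb := le_normalizer.trans hN
    obtain ⟨x, hx, y, hy, hx1, hy1, hxy⟩ := h.two_squares
    have hord : ∀ {w : G}, w ∈ (S : Subgroup G) → w * w ≠ 1 → orderOf (π w) = 2 := fun {w} hw h1 =>
      Basic.orderOf_two_iff.2 ⟨hexp _ ⟨w, hw, rfl⟩, fun e => h1 (h.exp w (hker.1 e).1)⟩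
    have hconj : ∀ t ∈ Xb, orderOf t = 2 → ∃ m ∈ Xb, m * t * m⁻¹ ∈ (Sb : Subgroup (G ⧸ ctr0 S)) := by
      intro t ht ht2
      obtain ⟨m, hm, hle⟩ := Transfer.Fusion.exists_conj_le_of_isPGroup Sb hSX
        (SEAbelian.isPGroup_zpowers (x := t) (k := 1) (by rw [pow_one, pow_two, Basic.inv_sq_one ht2]))
        (zpowers_le.2 ht)
      exact ⟨m, hm, hle (Transfer.Fusion.conj_mem_map_conj (mem_zpowers t) m)⟩
    have hse : Cfsg.IsStronglyEmbedded Xb := by
      refine StronglyEmbedded.of_conj htop ?_ fun t ht ht2 g hg => ?_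
      · rw [even_iff_two_dvd, ← hord hx hx1]
        exact Subgroup.orderOf_dvd_natCard _ (hSX ⟨x, hx, rfl⟩)
      obtain ⟨m, hm, hq⟩ := hconj t ht ht2
      obtain ⟨m', hm', hq'⟩ := hconj _ hg (by rw [Basic.orderOf_conj, ht2])
      have hcen' : ∀ v ∈ (Sb : Subgroup (G ⧸ ctr0 S)),
          v ∈ centralizer ((Sb : Subgroup (G ⧸ ctr0 S)) : Set (G ⧸ ctr0 S)) := fun v hv =>
        mem_centralizer_iff.2 fun s hs => hcomm s hs v hv
      obtain ⟨k, hk, he⟩ := Sb.conj_eq_normalizer_conj_of_mem_centralizer (m * t * m⁻¹)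
        (m' * g * m⁻¹)⁻¹ (hcen' _ hq) (hcen' _ (by
          convert hq' using 1
          group))
      rw [inv_inv] at he
      have h1 : k * (m' * g * m⁻¹) ∈ Xb := hC _ hq
        (fun e => Basic.ne_one ht2 (conj_eq_one_iff.1 e))
        (mem_centralizer_singleton_iff.2 (mul_inv_eq_iff_eq_mul.1 (calc
          k * (m' * g * m⁻¹) * (m * t * m⁻¹) * (k * (m' * g * m⁻¹))⁻¹
              = k * (m' * g * m⁻¹ * (m * t * m⁻¹) * (m' * g * m⁻¹)⁻¹) * k⁻¹ := by group
            _ = m * t * m⁻¹ := by rw [he]; group)))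
      rw [show g = m'⁻¹ * (k⁻¹ * (k * (m' * g * m⁻¹))) * m by group]
      exact mul_mem (mul_mem (inv_mem hm') (mul_mem (inv_mem (hN hk)) h1)) hm
    obtain ⟨k, hk⟩ := isConj_iff.1 (StronglyEmbedded.isConj_involutions hse (hord hx hx1) (hord hy hy1))
    obtain ⟨k, rfl⟩ := hsurj k
    have hc : (k * x * k⁻¹)⁻¹ * y ∈ ctr0 S := QuotientGroup.eq.1 (by
      show π (k * x * k⁻¹) = π y
      rw [map_mul, map_mul, map_inv, hk])
    set c := (k * x * k⁻¹)⁻¹ * y
    have hyc : y = k * x * k⁻¹ * c := (mul_inv_cancel_left _ _).symm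
    refine hxy ?_
    calc x * x = k * (x * x) * k⁻¹ := by
          rw [mem_center_iff.1 (hcen _ (h.sq x hx)) k, mul_inv_cancel_right]
      _ = k * (x * x) * k⁻¹ * (c * c) := by rw [h.exp c hc.1, mul_one]
      _ = k * x * k⁻¹ * c * (k * x * k⁻¹ * c) := by
          have e1 : ∀ v : G, v * c = c * v := mem_center_iff.1 hc.2
          rw [show k * (x * x) * k⁻¹ = k * x * k⁻¹ * (k * x * k⁻¹) by group]
          generalize hv : k * x * k⁻¹ = v
          generalize c = d at e1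
          rw [show v * d * (v * d) = v * (d * v) * d by group, ← e1 v]
          group
      _ = y * y := by rw [← hyc]
  -- the centralizers
  have hcent : ∀ Xb : Subgroup (G ⧸ ctr0 S),
      normalizer ((Sb : Subgroup (G ⧸ ctr0 S)) : Set (G ⧸ ctr0 S)) ≤ Xb →
      (∀ q ∈ (Sb : Subgroup (G ⧸ ctr0 S)), q ≠ 1 → tht q ≤ Xb) → Xb = ⊤ := by
    intro Xb hN hθ
    refine key Xb hN fun q hq hq1 g hg => ?_
    haveI := hsol q hq hq1
    have hle : (Sb : Subgroup (G ⧸ ctr0 S)) ≤ centralizer ({q} : Set (G ⧸ ctr0 S)) := fun s hs =>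
      mem_centralizer_singleton_iff.2 (hcomm s hs q hq)
    obtain ⟨w, hw, m, hm, e⟩ := SEAbelian.exists_core_mul_normalizer
      (hab.subgroup (centralizer ({q} : Set (G ⧸ ctr0 S)))) (Sb.subtype hle)
      (⟨g, hg⟩ : ↥(centralizer ({q} : Set (G ⧸ ctr0 S))))
    rw [show g = (w : G ⧸ ctr0 S) * (m : G ⧸ ctr0 S) from (congrArg Subtype.val e).symm]
    refine mul_mem (hθ q hq hq1 ⟨w, hw, rfl⟩) (hN (mem_normalizer_fintype fun s hs => ?_))
    exact (mem_normalizer_iff.1 hm ⟨s, hle hs⟩).1 hs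
  set W := joinOn tht (Sb : Subgroup (G ⧸ ctr0 S))
  have hW1 : normalizer (W : Set (G ⧸ ctr0 S)) = ⊤ := hcent _ (normalizer_le_join _)
    fun q hq hq1 => (tht_le_join hq hq1).trans le_normalizer
  haveI : W.Normal := normalizer_eq_top_iff.1 hW1
  have hW0 : W = ⊥ := by
    have h1 := Agent.Cores.le_oddCore (N := W) (odd_join hA h8 hsol)
    rwa [M.oddCore_quot, le_bot_iff] at h1
  have hN1 : normalizer ((Sb : Subgroup (G ⧸ ctr0 S)) : Set (G ⧸ ctr0 S)) = ⊤ :=
    hcent _ le_rfl fun q hq hq1 => (tht_le_join hq hq1).trans (hW0.le.trans bot_le)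
  refine eq_top_iff.2 fun g _ => mem_normalizer_fintype fun s hs => ?_
  have h1 : π (g * s * g⁻¹) ∈ (Sb : Subgroup (G ⧸ ctr0 S)) := by
    rw [map_mul, map_mul, map_inv]
    exact (mem_normalizer_iff.1 (hN1.symm.le (mem_top (π g))) _).1 ⟨s, hs, rfl⟩
  obtain ⟨s', hs', e⟩ := hlift _ h1
  have h2 : s'⁻¹ * (g * s * g⁻¹) ∈ ctr0 S := QuotientGroup.eq.1 e
  have h3 := mul_mem hs' (ctr_le (S := (S : Subgroup G)) h2.1)
  rwa [mul_inv_cancel_left] at h3

variable {Z1 : Subgroup G} (hZ1 : Z1 ≤ ctr (S : Subgroup G))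
  (hZN : normalizer ((S : Subgroup G) : Set G) ≤ normalizer (Z1 : Set G))
  (hZ0 : Z1 ⊓ center G = ⊥)
  (hdec : ∀ u ∈ ctr (S : Subgroup G), ∃ c ∈ ctr (S : Subgroup G), c ∈ center G ∧ ∃ x ∈ Z1, c * x = u)
include hZ1 hZN hZ0 hdec

omit M hZN hdec hZ1 in
theorem noncentral_of_moved {x : G} (hx : x ∈ Z1) (hx1 : x ≠ 1) : x ∉ center G := fun hc =>
  hx1 ((mem_bot).1 (hZ0.le ⟨hx, hc⟩))

omit M hZN hZ0 hZ1 in
/-- The core of a noncentral involution is the core of its moved part. -/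
theorem tht_moved {u : G} (hu : u ∈ ctr (S : Subgroup G)) (huc : u ∉ center G) :
    ∃ x ∈ Z1, x ≠ 1 ∧ tht u = tht x := by
  obtain ⟨c, hc, hcc, x, hx, rfl⟩ := hdec u hu
  exact ⟨x, hx, fun e => huc (by rw [e, mul_one]; exact hcc), tht_congr (centralizer_mul_center hcc)⟩

/-- A moved part of order four, with a central involution: the Sylow subgroup is normal. -/
theorem Min.normal_of_small (h4 : Nat.card ↥Z1 ≤ 4) {a b : G} (ha : a ∈ Z1) (hb : b ∈ Z1) (ha1 : a ≠ 1)
    (hb1 : b ≠ 1) (hab : a ≠ b) {z : G} (hz : z ∈ ctr0 S) (hz1 : z ≠ 1) :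
    normalizer ((S : Subgroup G) : Set G) = ⊤ := by
  classical
  haveI : Fact (Nat.Prime 2) := ⟨Nat.prime_two⟩
  have h := M.type
  have hac := noncentral_of_moved hZ0 ha ha1
  have hbc := noncentral_of_moved hZ0 hb hb1
  have habc : a * b ∉ center G := noncentral_of_moved hZ0 (mul_mem ha hb) fun e => hab (by
    rw [eq_inv_of_mul_eq_one_left e, h.inv_ctr (hZ1 hb)])
  have hsolroot : ∀ y ∈ (S : Subgroup G), y ∉ ctr (S : Subgroup G) → y * y ∈ center G →
      Group.IsSolvable ↥(cenY y) := fun y hy hyc hy2 => M.solvable_cenY hy hyc hy2 hdec h4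
  have habs : ∀ X : Subgroup G, normalizer ((S : Subgroup G) : Set G) ≤ X →
      (∀ u ∈ ctr (S : Subgroup G), u ∉ center G → tht u ≤ X) → X = ⊤ := by
    intro X hN hθ
    by_contra hX
    have hC : ∀ u ∈ ctr (S : Subgroup G), u ∉ center G → centralizer ({u} : Set G) ≤ X :=
      fun u hu huc => M.cent_le hu huc hN (hθ u hu huc)
    exact M.central_absurd hX hN hC (fun y hy hyc hy2 => M.cenY_le_of_solvable hy hyc hN hC (hZ1 ha) (hZ1 hb)
      hac hbc habc (hsolroot y hy hyc hy2)) hz hz1 (hZ1 ha) hac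
  set π := QuotientGroup.mk' (ctr0 S)
  have hker : ∀ {x : G}, π x = 1 ↔ x ∈ ctr0 S := fun {x} => QuotientGroup.eq_one_iff x
  obtain ⟨w, hwS, hwc⟩ := h.exists_notMem_ctr
  obtain ⟨y, hy, -, hyy⟩ := h.exists_root hwS hwc hz.1
  have hyc : y ∉ ctr (S : Subgroup G) := fun hc => hz1 (hyy ▸ h.exp y hc)
  set V := Z1.map π
  set A := (Z1 ⊔ zpowers y).map π
  have hZy : ∀ x ∈ Z1 ⊔ zpowers y, x * x ∈ ctr0 S ∧ ∀ x' ∈ Z1 ⊔ zpowers y, Commute x x' := by
    set T := (S : Subgroup G) ⊓ centralizer ({y} : Set G)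
    have hle : Z1 ⊔ zpowers y ≤ T := sup_le
      (fun x hx => ⟨ctr_le (hZ1 hx), mem_centralizer_singleton_iff.2 (commute_ctr (hZ1 hx) hy).eq⟩)
      (zpowers_le.2 ⟨hy, mem_centralizer_singleton_iff.2 rfl⟩)
    have hcomm : ∀ x ∈ T, ∀ x' ∈ T, Commute x x' := fun x hx x' hx' => h.cent_comm y hy hyc x hx.1 x' hx'.1
      (mem_centralizer_singleton_iff.1 hx.2).symm (mem_centralizer_singleton_iff.1 hx'.2).symm
    let Q : Subgroup G :=
      { carrier := {x | x ∈ T ∧ x * x ∈ ctr0 S}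
        one_mem' := ⟨one_mem _, by rw [one_mul]; exact one_mem _⟩
        mul_mem' := fun {p q} hp hq => ⟨mul_mem hp.1 hq.1, by
          rw [show p * q * (p * q) = p * (q * p) * q by group, (hcomm q hq.1 p hp.1).eq,
            show p * (p * q) * q = (p * p) * (q * q) by group]
          exact mul_mem hp.2 hq.2⟩
        inv_mem' := fun {p} hp => ⟨inv_mem hp.1, by rw [← mul_inv_rev]; exact inv_mem hp.2⟩ }
    have hQ : Z1 ⊔ zpowers y ≤ Q := sup_le
      (fun x hx => ⟨hle (mem_sup_left hx), by rw [h.exp x (hZ1 hx)]; exact one_mem _⟩)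
      (zpowers_le.2 ⟨hle (mem_sup_right (mem_zpowers y)), by rw [hyy]; exact hz⟩)
    exact fun x hx => ⟨(hQ hx).2, fun x' hx' => hcomm x (hle hx) x' (hle hx')⟩
  have hA : Cfsg.IsElementaryAbelian 2 A := PLocal.ThompsonSubgroup.isElementaryAbelian_iff.mpr
    ⟨by rintro _ ⟨p, hp, rfl⟩ _ ⟨q, hq, rfl⟩; exact ((hZy p hp).2 q hq).map π,
     by rintro _ ⟨p, hp, rfl⟩; rw [pow_two, ← map_mul, hker]; exact (hZy p hp).1⟩
  have hVA : V ≤ A := map_mono le_sup_left
  have h8 : 8 ≤ Nat.card ↥A := by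
    have hV : 4 ≤ Nat.card ↥V := by
      haveI := Fintype.ofFinite ↥Z1
      have hinj : Function.Injective (π.subgroupMap Z1) := (injective_iff_map_eq_one _).2 fun x hx =>
        Subtype.ext ((mem_bot).1 (hZ0.le ⟨x.2, (hker.1 (congrArg Subtype.val hx :)).2⟩))
      rw [← Nat.card_eq_of_bijective _ ⟨hinj, π.subgroupMap_surjective Z1⟩]
      have h3 : ({1, ⟨a, ha⟩, ⟨b, hb⟩, ⟨a * b, mul_mem ha hb⟩} : Finset ↥Z1).card ≤ Fintype.card ↥Z1 :=
        Finset.card_le_univ _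
      rw [← Nat.card_eq_fintype_card, Finset.card_insert_of_notMem, Finset.card_insert_of_notMem,
        Finset.card_pair] at h3
      · exact h3
      · exact fun e => ha1 (mul_eq_right.1 (congrArg Subtype.val e).symm)
      · simp only [Finset.mem_insert, Finset.mem_singleton, Subtype.ext_iff, not_or]
        exact ⟨hab, fun e => hb1 (mul_eq_left.1 e.symm)⟩
      · simp only [Finset.mem_insert, Finset.mem_singleton, Subtype.ext_iff, not_or, OneMemClass.coe_one]
        exact ⟨Ne.symm ha1, Ne.symm hb1, fun e => habc (e ▸ one_mem _)⟩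
    have hne : V ≠ A := fun e => by
      obtain ⟨x, hx, ex⟩ : π y ∈ V := e ▸ mem_map_of_mem _ (mem_sup_right (mem_zpowers y))
      refine hyc ?_
      have h1 : x⁻¹ * y ∈ ctr0 S := QuotientGroup.eq.1 ex
      rw [← mul_inv_cancel_left x y]
      exact mul_mem (hZ1 hx) h1.1
    have hp : IsPGroup 2 ↥A := fun q => ⟨1, Subtype.ext (by
      show (q : G ⧸ ctr0 S) ^ 2 ^ 1 = 1
      rw [pow_one]
      exact (PLocal.ThompsonSubgroup.isElementaryAbelian_iff.mp hA).2 q q.2)⟩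
    obtain ⟨k, hk⟩ := IsPGroup.iff_card.1 hp
    have hlt : Nat.card ↥V < Nat.card ↥A := lt_of_le_of_ne (card_le_of_le hVA)
      fun e => hne (eq_of_le_of_card_ge hVA e.ge)
    have : 3 ≤ k := by
      by_contra hk3
      have := Nat.pow_le_pow_right (show 0 < 2 by norm_num) (show k ≤ 2 by omega)
      omega
    rw [hk]
    exact le_trans (by norm_num) (Nat.pow_le_pow_right (show 0 < 2 by norm_num) this)
  have hsol : ∀ q ∈ A, q ≠ 1 → Group.IsSolvable ↥(centralizer ({q} : Set (G ⧸ ctr0 S))) := fun q hq hq1 =>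
    M.solvable_cent_quot hsolroot (Basic.orderOf_two_iff.2
      ⟨by rw [← pow_two]; exact (PLocal.ThompsonSubgroup.isElementaryAbelian_iff.mp hA).2 q hq, hq1⟩)
  set W := joinOn tht V
  have hodd : Odd (Nat.card ↥W) := odd_join_of_le hA h8 hsol hVA
  have hθ : ∀ u ∈ ctr (S : Subgroup G), u ∉ center G → (tht u).map π ≤ W := by
    intro u hu huc
    obtain ⟨x, hx, hx1, e⟩ := tht_moved hdec hu huc
    rw [e]
    have hxc := noncentral_of_moved hZ0 hx hx1
    have hle : (tht x).map π ≤ tht (π x) := by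
      have hCeq : ∀ q ∈ centralizer ({π x} : Set (G ⧸ ctr0 S)),
          ∃ g ∈ centralizer ({x} : Set G), π g = q := fun q hq => by
        obtain ⟨g, rfl⟩ := QuotientGroup.mk'_surjective (ctr0 S) q
        refine ⟨g, mem_centralizer_singleton_iff.2 (mul_inv_eq_iff_eq_mul.1 ?_), rfl⟩
        have h1 : x⁻¹ * (g * x * g⁻¹) ∈ ctr0 S := QuotientGroup.eq.1 (by
          show π x = π (g * x * g⁻¹)
          rw [map_mul, map_mul, map_inv, mem_centralizer_singleton_iff.1 hq, mul_inv_cancel_right])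
        have := h.not_translate (hZ1 hx) h1.1 h1.2 (g := g) (by rw [mul_inv_cancel_left])
        rwa [inv_mul_eq_one, eq_comm] at this
      set Cb := centralizer ({π x} : Set (G ⧸ ctr0 S))
      have hsub : (tht x).map π ≤ Cb := by
        rintro _ ⟨g, hg, rfl⟩
        refine mem_centralizer_singleton_iff.2 ?_
        rw [← map_mul, ← map_mul,
          mem_centralizer_singleton_iff.1 (Components.Balance.centralizerPPrimeCore_le_centralizer 2 x hg)]
      have hn : ((((tht x).map π)).subgroupOf Cb).Normal := ⟨fun p hp q => by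
        obtain ⟨g, hg, e⟩ := hp
        obtain ⟨k, hk, ek⟩ := hCeq q q.2
        refine ⟨k * g * k⁻¹,
          (mem_normalizer_iff.1 (Components.Balance.le_normalizer_centralizerPPrimeCore 2 x hk) g).1 hg, ?_⟩
        rw [map_mul, map_mul, map_inv, ek, e]; rfl⟩
      intro q hq
      refine ⟨⟨q, hsub hq⟩, ?_, rfl⟩
      refine PLocal.Cores.le_pPrimeCore (N := ((tht x).map π).subgroupOf Cb) ?_ hq
      rw [Nat.card_congr (subgroupOfEquivOfLe hsub).toEquiv]
      exact Nat.coprime_two_right.2 ((odd_tht x).of_dvd_nat (card_map_dvd _ _))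
    exact hle.trans (tht_le_join (mem_map_of_mem π hx)
      (fun e1 => hxc ((hker.1 e1).2)))
  set X := (normalizer (W : Set (G ⧸ ctr0 S))).comap π
  have hNX : normalizer ((S : Subgroup G) : Set G) ≤ X := fun g hg => by
    refine normalizer_le_join V (mem_normalizer_fintype ?_)
    rintro _ ⟨x, hx, rfl⟩
    exact ⟨g * x * g⁻¹, (mem_normalizer_iff.1 (hZN hg) x).1 hx, by rw [map_mul, map_mul, map_inv]⟩
  have hXtop : X = ⊤ := habs X hNX fun u hu huc g hg =>
    le_normalizer (hθ u hu huc (mem_map_of_mem π hg))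
  haveI : W.Normal := normalizer_eq_top_iff.1 (eq_top_iff.2 fun q _ => by
    obtain ⟨g, rfl⟩ := QuotientGroup.mk'_surjective (ctr0 S) q
    exact (eq_top_iff' _).1 hXtop g)
  have hW0 : W = ⊥ := by
    have h1 := Agent.Cores.le_oddCore (N := W) hodd
    rwa [M.oddCore_quot, le_bot_iff] at h1
  refine habs _ le_rfl fun u hu huc g hg => ctr0_le_normalizer ?_
  have h1 := hθ u hu huc (mem_map_of_mem π hg)
  rw [hW0, mem_bot] at h1
  exact hker.1 h1

/-- A moved part of order at least eight. -/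
theorem Min.big_case (hcore : CoreLemma.{u}) (h8 : 8 ≤ Nat.card ↥Z1) :
    normalizer ((S : Subgroup G) : Set G) = ⊤ ∨
      ∃ L : Subgroup (G ⧸ Cfsg.oddCore G), L.Normal ∧ Odd L.index ∧ CyclicSylowInter.KindTI ↥L := by
  classical
  haveI : Fact (Nat.Prime 2) := ⟨Nat.prime_two⟩
  have h := M.type
  have hA : Cfsg.IsElementaryAbelian 2 Z1 := PLocal.ThompsonSubgroup.isElementaryAbelian_iff.mpr
    ⟨fun p hp q hq => (commute_ctr (hZ1 hp) (ctr_le (hZ1 hq))).eq,
     fun p hp => by rw [pow_two]; exact h.exp p (hZ1 hp)⟩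
  set W := joinOn tht Z1
  have hW : Odd (Nat.card ↥W) := odd_join hA h8 fun x hx hx1 =>
    M.solvable_cent (hZ1 hx) (noncentral_of_moved hZ0 hx hx1)
  set N := normalizer ((S : Subgroup G) : Set G)
  have hNW : N ≤ normalizer (W : Set G) := hZN.trans (normalizer_le_join Z1)
  set X := SEAbelian.prodN W N hNW
  have hN : N ≤ X := SEAbelian.le_prodN_right
  have hWX : W ≤ X := SEAbelian.le_prodN_left
  have hXW : X ≤ normalizer (W : Set G) := SEAbelian.prodN_le_normalizer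
  have hC : ∀ u ∈ ctr (S : Subgroup G), u ∉ center G → centralizer ({u} : Set G) ≤ X := by
    intro u hu huc
    obtain ⟨x, hx, hx1, e⟩ := tht_moved hdec hu huc
    exact M.cent_le hu huc hN ((e.le.trans (tht_le_join hx hx1)).trans hWX)
  by_cases hX : X = ⊤
  · left
    haveI : W.Normal := normalizer_eq_top_iff.1 (eq_top_iff.2 (hX ▸ hXW))
    have hW0 : W = ⊥ := le_bot_iff.1 (M.core ▸ Agent.Cores.le_oddCore (N := W) hW)
    refine eq_top_iff.2 fun g _ => ?_
    obtain ⟨w, hw, m, hm, rfl⟩ := SEAbelian.mem_prodN.1 ((eq_top_iff' _).1 hX g)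
    rw [hW0, mem_bot] at hw
    rwa [hw, one_mul]
  -- closedness
  have hSW : (S : Subgroup G) ≤ normalizer (W : Set G) := le_normalizer.trans hNW
  set WS := SEAbelian.prodN W (S : Subgroup G) hSW
  have hin : ∀ p ∈ X, (∃ k : ℕ, p ^ (2 ^ k) ∈ W) → p ∈ WS := by
    rintro _ ⟨w, hw, m, hm, rfl⟩ ⟨k, hk⟩
    rw [SEAbelian.pow_mem_iff_right (hNW hm) hw] at hk
    refine mul_mem (SEAbelian.le_prodN_left hw) ?_
    obtain ⟨j, d, hd, hmd⟩ := SEAbelian.exists_parts m
    refine SEAbelian.mem_of_parts (j := k) hd (SEAbelian.le_prodN_left hk) (SEAbelian.le_prodN_right ?_)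
    exact SEAbelian.mem_sylow_of_normalizer S (pow_mem hm _) (k := j) (by rw [← pow_mul, mul_comm, hmd])
  have hcl : ∀ p ∈ X, ∀ q ∈ X, (∃ k : ℕ, p ^ (2 ^ k) ∈ W) → (∃ k : ℕ, q ^ (2 ^ k) ∈ W) →
      ∃ k : ℕ, (p * q) ^ (2 ^ k) ∈ W := by
    intro p hp q hq hpk hqk
    obtain ⟨w, hw, s, hs, e⟩ := mul_mem (hin p hp hpk) (hin q hq hqk)
    obtain ⟨k, hk⟩ := S.2 ⟨s, hs⟩
    refine ⟨k, ?_⟩
    rw [← e, SEAbelian.pow_mem_iff_right (hSW hs) hw,
      show s ^ 2 ^ k = 1 from congrArg Subtype.val hk]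
    exact one_mem _
  by_cases hz : ∃ z ∈ ctr0 S, z ≠ 1
  · exfalso
    obtain ⟨z, hz, hz1⟩ := hz
    haveI : Nontrivial ↥Z1 := Finite.one_lt_card_iff_nontrivial.1 (by omega)
    obtain ⟨⟨a, ha⟩, ha1⟩ := exists_ne (1 : ↥Z1)
    obtain ⟨b, hb, hb1, hab⟩ : ∃ b ∈ Z1, b ≠ 1 ∧ a ≠ b := by
      by_contra! hall
      haveI := Fintype.ofFinite ↥Z1
      have h2 : (Finset.univ : Finset ↥Z1) ⊆ {1, ⟨a, ha⟩} := fun x _ => by
        by_cases hx : x = 1
        · simp [hx]
        · simp only [Finset.mem_insert, Finset.mem_singleton]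
          exact Or.inr (Subtype.ext (hall x x.2 fun e => hx (Subtype.ext e)).symm)
      have h3 := Finset.card_le_card h2
      rw [Finset.card_univ, ← Nat.card_eq_fintype_card] at h3
      have := (Finset.card_insert_le (1 : ↥Z1) {⟨a, ha⟩}).trans_eq (by rw [Finset.card_singleton])
      omega
    have ha1' : a ≠ 1 := fun e => ha1 (Subtype.ext e)
    have hac := noncentral_of_moved hZ0 ha ha1'
    have hbc := noncentral_of_moved hZ0 hb hb1
    have habc : a * b ∉ center G := noncentral_of_moved hZ0 (mul_mem ha hb) fun e => hab (by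
      rw [eq_inv_of_mul_eq_one_left e, h.inv_ctr (hZ1 hb)])
    exact M.central_absurd hX hN hC (fun y hy hyc hy2 => M.cenY_le hy hyc hN hC (hZ1 ha) (hZ1 hb) hac hbc
      habc hy2 hcore hW hWX hXW hcl) hz hz1 (hZ1 ha) hac
  · right
    push Not at hz
    have hnc : ∀ u ∈ ctr (S : Subgroup G), u ≠ 1 → u ∉ center G := fun u hu hu1 hc => hu1 (hz u ⟨hu, hc⟩)
    have hSX : (S : Subgroup G) ≤ X := le_normalizer.trans hN
    have hse : Cfsg.IsStronglyEmbedded X := by
      refine StronglyEmbedded.of_conj hX ?_ fun t ht ht2 g hg => ?_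
      · haveI : Nontrivial ↥Z1 := Finite.one_lt_card_iff_nontrivial.1 (by omega)
        obtain ⟨⟨a, ha⟩, ha1⟩ := exists_ne (1 : ↥Z1)
        have ha2 : orderOf a = 2 :=
          Basic.orderOf_two_iff.2 ⟨h.exp a (hZ1 ha), fun e => ha1 (Subtype.ext e)⟩
        rw [even_iff_two_dvd, ← ha2]
        exact Subgroup.orderOf_dvd_natCard _ (hSX (ctr_le (hZ1 ha)))
      · refine M.mem_of_conj hN hC ht (Basic.inv_sq_one ht2) (fun hc => ?_) hg
        obtain ⟨m, -, hmc⟩ := h.exists_conj_ctr hSX ht (Basic.inv_sq_one ht2)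
        have e1 : m * t * m⁻¹ = t := by rw [mem_center_iff.1 hc m, mul_inv_cancel_right]
        rw [e1] at hmc
        exact hnc t hmc (Basic.ne_one ht2) hc
    exact (kind_of_hyp hcore (⟨hse, hWX, hXW, hW, hcl, ctr (S : Subgroup G), ctr_le.trans hSX,
      h.ctr_elementary, h.eight_le⟩ : Hyp X W)).2

end Cfsg.Agent.SECoreTwoClosed
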