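import Cfsg.Agent.S0949
import Cfsg.Agent.Lib.Cores.Subnormal
import Cfsg.Agent.Lib.SECoreTwoClosed.UThree.Setup

/-!
# The centralizer of a root of a central involution

If `y ∈ S \ Z(S)` has a central square, the centralizer `K` of `y` has an abelian Sylow 2-subgroup and a
normal subgroup `L` with abelian quotient, whose involutions are noncentral.
-/

set_option autoImplicit false
set_option linter.style.haveILetI false
set_option linter.unusedSectionVars false

namespace Cfsg.Agent.SECoreTwoClosed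

open Subgroup
open Cfsg.Agent.Involutions

universe u v

variable {G : Type u} [Group G] [Finite G] {S : Sylow 2 G} {n : ℕ}

/-- Every element of the centre is a square in the centralizer of a noncentral element. -/
theorem UType.exists_root (h : UType (S : Subgroup G) n) {y z : G} (hy : y ∈ (S : Subgroup G))
    (hyc : y ∉ ctr (S : Subgroup G)) (hz : z ∈ ctr (S : Subgroup G)) :
    ∃ s ∈ (S : Subgroup G), Commute s y ∧ s * s = z := by
  set T := (S : Subgroup G) ⊓ centralizer ({y} : Set G)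
  have hab : ∀ a ∈ T, ∀ b ∈ T, Commute a b := fun a ha b hb =>
    h.cent_comm y hy hyc a ha.1 b hb.1 (mem_centralizer_singleton_iff.1 ha.2).symm
      (mem_centralizer_singleton_iff.1 hb.2).symm
  let f : ↥T →* ↥(ctr (S : Subgroup G)) :=
    { toFun := fun s => ⟨(s : G) * s, h.sq _ s.2.1⟩
      map_one' := Subtype.ext (one_mul 1)
      map_mul' := fun a b => Subtype.ext (by
        show (a : G) * b * ((a : G) * b) = (a : G) * a * ((b : G) * b)
        have := (hab b b.2 a a.2).eq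
        rw [mul_assoc (a : G) b, ← mul_assoc (b : G) a b, this, mul_assoc (a : G) b b, ← mul_assoc (a : G)]) }
  have hk : Nat.card ↥f.ker ≤ Nat.card ↥(ctr (S : Subgroup G)) :=
    Nat.card_le_card_of_injective (fun s => ⟨((s : ↥T) : G), h.invol _ (s : ↥T).2.1 (congrArg Subtype.val s.2)⟩)
      fun a b e => Subtype.ext (Subtype.ext (congrArg Subtype.val e :))
  have h1 := card_mul_index f.ker
  rw [index_ker, show Nat.card ↥T = (2 ^ n) ^ 2 from h.card_cent hy hyc, pow_two] at h1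
  rw [h.card_ctr] at hk
  have hr : f.range = ⊤ := eq_top_of_le_card _ (by
    rw [h.card_ctr]
    by_contra hlt
    have := Nat.mul_lt_mul_of_le_of_lt hk (not_le.1 hlt) (Nat.two_pow_pos n)
    omega)
  obtain ⟨s, hs⟩ := MonoidHom.range_eq_top.1 hr ⟨z, hz⟩
  exact ⟨s, s.2.1, mem_centralizer_singleton_iff.1 s.2.2, congrArg Subtype.val hs⟩

section Root

variable (h : UType (S : Subgroup G) n) {y : G} (hy : y ∈ (S : Subgroup G))
  (hyc : y ∉ ctr (S : Subgroup G)) (hy2 : y * y ∈ center G)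

/-- The centralizer of `y`. -/
abbrev cenY (y : G) : Subgroup G := centralizer ({y} : Set G)

theorem mem_cenY {g : G} : g ∈ cenY y ↔ g * y = y * g := mem_centralizer_singleton_iff

include h hy hyc in
theorem abTwo_cenY : ∀ P : Subgroup G, P ≤ cenY y → IsPGroup 2 ↥P →
    (∀ a ∈ P, ∀ b ∈ P, Commute a b) ∧ Nat.card ↥P ≤ (2 ^ n) ^ 2 := by
  haveI : Fact (Nat.Prime 2) := ⟨Nat.prime_two⟩
  intro P hP hP2
  obtain ⟨k, hk⟩ := h.two ⟨y, hy⟩
  have hyp : IsPGroup 2 ↥(zpowers y) := SEAbelian.isPGroup_zpowers (congrArg Subtype.val hk)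
  have hn : P ≤ normalizer (zpowers y : Set G) := fun g hg => mem_normalizer_fintype fun x hx => by
    obtain ⟨i, rfl⟩ := hx
    show g * y ^ i * g⁻¹ ∈ zpowers y
    rw [((show Commute g y from mem_cenY.1 (hP hg)).zpow_right i).eq, mul_inv_cancel_right]
    exact zpow_mem (mem_zpowers y) i
  obtain ⟨T, hT⟩ := (hP2.to_sup_of_normal_right' hyp hn).exists_le_sylow
  have hyT : y ∈ (T : Subgroup G) := hT (mem_sup_right (mem_zpowers y))
  have hT' := h.sylow T
  have hyc' : y ∉ ctr (T : Subgroup G) := fun hc => h.sq_ne_one hy hyc (hT'.exp y hc)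
  have hPT : P ≤ (T : Subgroup G) ⊓ cenY y := le_inf (le_sup_left.trans hT) hP
  refine ⟨fun a ha b hb => hT'.cent_comm y hyT hyc' a (hPT ha).1 b (hPT hb).1
    (mem_cenY.1 (hP ha)).symm (mem_cenY.1 (hP hb)).symm, ?_⟩
  rw [← hT'.card_cent hyT hyc']
  exact card_le_of_le hPT

include h hy hyc in
theorem abTwo_sub : SEAbelian.AbTwo ↥(cenY y) := fun P hP a ha b hb =>
  Subtype.ext ((abTwo_cenY h hy hyc _ (map_subtype_le P) (hP.map _)).1 _ (mem_map_of_mem _ ha) _
    (mem_map_of_mem _ hb)).eq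

include h hy hyc in
/-- `C_S(y)` is a Sylow subgroup of the centralizer. -/
theorem exists_sylow_cenY : ∃ T : Sylow 2 ↥(cenY y),
    ∀ x : ↥(cenY y), x ∈ (T : Subgroup ↥(cenY y)) ↔ (x : G) ∈ (S : Subgroup G) := by
  refine ⟨⟨(S : Subgroup G).subgroupOf (cenY y), S.2.comap_subtype, fun {Q} hQ hle => ?_⟩, fun x => Iff.rfl⟩
  refine (eq_of_le_of_card_ge hle ?_).symm
  rw [← card_map_of_injective (cenY y).subtype_injective (K := Q),
    ← card_map_of_injective (cenY y).subtype_injective (K := (S : Subgroup G).subgroupOf (cenY y)),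
    subgroupOf_map_subtype, h.card_cent hy hyc]
  exact (abTwo_cenY h hy hyc _ (map_subtype_le Q) (hQ.map _)).2

include hy2 in
theorem mem_cenY_of_center {c : G} (hc : c ∈ center G) : c ∈ cenY y :=
  mem_cenY.2 (mem_center_iff.1 hc y).symm

include h hy hyc hy2 in
/-- The focal subgroup of the centralizer. -/
theorem exists_focal (T : Sylow 2 ↥(cenY y))
    (hT : ∀ x : ↥(cenY y), x ∈ (T : Subgroup ↥(cenY y)) ↔ (x : G) ∈ (S : Subgroup G)) :
    ∃ L : Subgroup ↥(cenY y), L.Normal ∧ L ⊔ (T : Subgroup ↥(cenY y)) = ⊤ ∧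
      (∀ x ∈ L, x ∈ (T : Subgroup ↥(cenY y)) → x * x = 1 → (x : G) ∈ center G → x = 1) ∧
      (∀ x ∈ L, x ∈ (T : Subgroup ↥(cenY y)) → x * x = 1 →
        ∃ d ∈ L, d ∈ (T : Subgroup ↥(cenY y)) ∧ d * d = x) ∧
      (∀ x ∈ L, x ∈ (T : Subgroup ↥(cenY y)) → x * x = 1 →
        (∀ x' ∈ L, x' ∈ (T : Subgroup ↥(cenY y)) → x' * x' = 1 → x' = 1 ∨ x' = x) → x = 1) := by
  haveI : Fact (Nat.Prime 2) := ⟨Nat.prime_two⟩
  set P := (T : Subgroup ↥(cenY y))
  have hab := abTwo_sub h hy hyc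
  haveI : IsMulCommutative ↥P := ⟨⟨fun a b => Subtype.ext (hab P T.2 a a.2 b b.2).eq⟩⟩
  set N := normalizer (P : Set ↥(cenY y))
  set P' := P.subgroupOf N
  haveI : P'.Normal := Subgroup.normal_in_normalizer
  obtain ⟨k, hk⟩ := IsPGroup.iff_card.1 T.2
  have hidx : ¬ 2 ∣ P'.index := fun hd =>
    T.not_dvd_index (hd.trans (relIndex_dvd_index_of_le le_normalizer))
  obtain ⟨A', hA'⟩ := Subgroup.exists_right_complement'_of_coprime (N := P') (by
    rw [Nat.card_congr (subgroupOfEquivOfLe le_normalizer).toEquiv, hk]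
    exact ((Nat.prime_two.coprime_iff_not_dvd.2 hidx)).pow_left k)
  set A := A'.map N.subtype
  have hAN : A ≤ N := map_subtype_le _
  have hAP : A ≤ normalizer (P : Set ↥(cenY y)) := hAN
  have hcop : (Nat.card ↥A).Coprime (Nat.card ↥P) := by
    rw [card_map_of_injective N.subtype_injective, hk]
    have h4 : P'.index = Nat.card ↥A' :=
      mul_left_cancel₀ Nat.card_pos.ne' ((card_mul_index P').trans hA'.card_mul_card.symm)
    rw [← h4]
    exact ((Nat.prime_two.coprime_iff_not_dvd.2 hidx).symm).pow_right k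
  set T1 : Subgroup ↥(cenY y) := ⁅P, A⁆
  have hT1P : T1 ≤ P := Coprime.commutator_le_of_le_normalizer hAP
  have hdisj : ∀ x ∈ P, x ∈ centralizer (A : Set ↥(cenY y)) → x ∈ T1 → x = 1 := fun x h1 h2 h3 =>
    (mem_bot).1 ((Coprime.inf_centralizer_inf_commutator hAP hcop).le ⟨⟨h1, h2⟩, h3⟩)
  have hfocal : commutator ↥(cenY y) ⊓ P ≤ T1 := by
    refine Transfer.Fusion.focal_le_of_fusion T fun x hx g hg => ?_
    have hcen : ∀ v ∈ P, v ∈ centralizer (P : Set ↥(cenY y)) := fun v hv =>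
      mem_centralizer_iff.2 fun s hs => (hab P T.2 s hs v hv).eq
    obtain ⟨m, hm, he⟩ := T.conj_eq_normalizer_conj_of_mem_centralizer x g⁻¹ (hcen x hx)
      (by rw [inv_inv]; exact hcen _ hg)
    rw [inv_inv] at he
    obtain ⟨⟨s, a⟩, hsa⟩ := hA'.surjective ⟨m⁻¹, inv_mem hm⟩
    have hsa' : (s.1 : ↥(cenY y)) * (a.1 : ↥(cenY y)) = m⁻¹ := congrArg Subtype.val hsa
    refine ⟨(a.1 : ↥(cenY y)), ?_, commutator_mem_commutator hx (mem_map_of_mem _ a.2)⟩
    have hax : (a.1 : ↥(cenY y)) * x * (a.1 : ↥(cenY y))⁻¹ ∈ P :=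
      (mem_normalizer_iff.1 (a.1).2 x).1 hx
    rw [he, ← show (s.1 : ↥(cenY y)) * ((a.1 : ↥(cenY y)) * x * (a.1 : ↥(cenY y))⁻¹) *
      (s.1 : ↥(cenY y))⁻¹ = m⁻¹ * x * m by rw [← inv_inv m, ← hsa']; group]
    have hsc : ((s.1 : ↥N) : ↥(cenY y)) * _ = _ := (hab P T.2 _ s.2 _ hax).eq
    rw [hsc]
    exact (mul_inv_cancel_right _ _).symm
  obtain ⟨L, hLn, hLeq, hLsup⟩ := Transfer.Fusion.exists_normal_inf_eq_focal T
  have hT1L : T1 ≤ L := by
    refine le_trans (le_inf ?_ hT1P) (hLeq.symm.le.trans inf_le_left)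
    rw [_root_.commutator_def]
    exact Subgroup.commutator_mono le_top le_top
  have hLT : ∀ x ∈ L, x ∈ P → x ∈ T1 := fun x h1 h2 => hfocal (hLeq.le ⟨h1, h2⟩)
  refine ⟨L, hLn, hLsup, fun x hxL hxP _ hxc => ?_, fun x hxL hxP hx2 => ?_, fun x hxL hxP hx2 huniq => ?_⟩
  · refine hdisj x hxP (mem_centralizer_iff.2 fun a _ => Subtype.ext ?_) (hLT x hxL hxP)
    exact mem_center_iff.1 hxc (a : G)
  · have hxZ : (x : G) ∈ ctr (S : Subgroup G) :=
      h.invol _ ((hT x).1 hxP) (congrArg Subtype.val hx2)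
    obtain ⟨s, hs, hsy, hss⟩ := h.exists_root hy hyc hxZ
    obtain ⟨c, hc, d, hd, hcd⟩ := Coprime.exists_eq_centralizer_mul_commutator hAP hcop
      (Or.inr (Group.isSolvable_of_comm fun a b => mul_comm' a b))
      (show (⟨s, mem_cenY.2 hsy.eq⟩ : ↥(cenY y)) ∈ P from (hT _).2 hs)
    refine ⟨d, hT1L hd, hT1P hd, ?_⟩
    have hdc : Commute c d := hab P T.2 c hc.1 d (hT1P hd)
    have e1 : c * c * (d * d) = x := by
      rw [show c * c * (d * d) = c * (c * d) * d by group, hdc.eq,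
        show c * (d * c) * d = (c * d) * (c * d) by group, ← hcd]
      exact Subtype.ext hss
    have h1 : c * c = 1 := hdisj _ (mul_mem hc.1 hc.1) (mul_mem hc.2 hc.2) (by
      rw [show c * c = x * (d * d)⁻¹ by rw [← e1, mul_inv_cancel_right]]
      exact mul_mem (hLT x hxL hxP) (inv_mem (mul_mem hd hd)))
    rwa [h1, one_mul] at e1
  · refine hdisj x hxP (mem_centralizer_iff.2 fun a ha => ?_) (hLT x hxL hxP)
    have hax : a * x * a⁻¹ ∈ P := (mem_normalizer_iff.1 (hAP ha) x).1 hxP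
    rcases huniq _ (hLn.conj_mem x hxL a) hax (by
      rw [show a * x * a⁻¹ * (a * x * a⁻¹) = a * (x * x) * a⁻¹ by group, hx2, mul_one, mul_inv_cancel])
      with e | e
    · rw [conj_eq_one_iff] at e
      rw [e, mul_one, one_mul]
    · exact mul_inv_eq_iff_eq_mul.1 e

end Root

end Cfsg.Agent.SECoreTwoClosed
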