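import Cfsg.Agent.S1136
import Cfsg.Agent.Lib.CyclicSylowInter.KindFacts
import Cfsg.Agent.Lib.MonomialMult.FieldChange
import Cfsg.Agent.Lib.SETwoClosed.Tail.Main
import Cfsg.Agent.Lib.SECore.NoBadBasic
import Cfsg.Agent.Lib.SECoreTwoClosed.UThree.Basic

/-!
# The simple groups given by the core lemma and theorem T
-/

set_option autoImplicit false
set_option linter.style.haveILetI false
set_option linter.unusedSectionVars false

namespace Cfsg.Agent.SECoreTwoClosed

open Subgroup MulAction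
open Cfsg.Agent.Involutions
open Cfsg.Agent.CyclicSylowInter

universe u v

variable {G : Type u} [Group G] [Finite G]

/-- Given the core lemma, a group with such a subgroup is rank one modulo its odd core. -/
theorem kind_of_hyp (hc : CoreLemma.{u}) {H W : Subgroup G} (h : Hyp H W) :
    Cfsg.oddCore G ≤ H ∧
      ∃ L : Subgroup (G ⧸ Cfsg.oddCore G), L.Normal ∧ Odd L.index ∧ KindTI ↥L := by
  classical
  obtain ⟨A, hAH, hA, hA8⟩ := h.eight
  haveI : Nontrivial ↥A := Finite.one_lt_card_iff_nontrivial.1 (by omega)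
  obtain ⟨a, ha1⟩ := exists_ne (1 : ↥A)
  obtain ⟨b, hb1, hab⟩ : ∃ b : ↥A, b ≠ 1 ∧ a ≠ b := by
    by_contra! hall
    haveI := Fintype.ofFinite ↥A
    have h2 : (Finset.univ : Finset ↥A) ⊆ {1, a} := fun x _ => by
      by_cases hx : x = 1
      · simp [hx]
      · simp [hall x hx]
    have h3 := Finset.card_le_card h2
    rw [Finset.card_univ, ← Nat.card_eq_fintype_card] at h3
    have := (Finset.card_insert_le (1 : ↥A) {a}).trans_eq (by rw [Finset.card_singleton])
    omega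
  obtain ⟨hAc, hAe⟩ := PLocal.ThompsonSubgroup.isElementaryAbelian_iff.mp hA
  have hord : ∀ x : ↥A, x ≠ 1 → orderOf (x : G) = 2 := fun x hx => Basic.orderOf_two_iff.2
    ⟨by rw [← pow_two]; exact hAe x x.2, fun e => hx (Subtype.ext e)⟩
  have hcom : Commute (a : G) b := hAc a a.2 b b.2
  set O := Cfsg.oddCore G
  have hOn : ∀ x : G, x ∈ normalizer (O : Set G) := fun x => by
    rw [normalizer_eq_top]; exact mem_top x
  have hmemH : ∀ (x : ↥A), x ≠ 1 → ∀ y : G, Commute y (x : G) → y ∈ H := fun x hx y hy =>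
    StronglyEmbedded.centralizer_le h.se (hAH x.2) (hord x hx) (mem_centralizer_singleton_iff.2 hy.eq)
  have hab1 : a * b ≠ 1 := fun e => hab (by
    refine (eq_inv_of_mul_eq_one_left e).trans (inv_eq_of_mul_eq_one_right (Subtype.ext ?_))
    exact Basic.inv_sq_one (hord b hb1))
  have hOH : O ≤ H := SECore.le_of_four Agent.Cores.oddCore_odd (Basic.inv_sq_one (hord a ha1))
    (Basic.inv_sq_one (hord b hb1)) hcom (hOn _) (hOn _) fun y _ hy => by
      rcases hy with hy | hy | hy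
      · exact hmemH a ha1 y hy
      · exact hmemH b hb1 y hy
      · exact hmemH (a * b) hab1 y hy
  refine ⟨hOH, ?_⟩
  have hWO : W ≤ O := hc G H W h
  set π := QuotientGroup.mk' O
  set Hb := H.map π
  have hOodd : Odd (Nat.card ↥O) := Agent.Cores.oddCore_odd
  have himg : ∀ x : G, orderOf x = 2 → orderOf (π x) = 2 := fun x hx => by
    refine Basic.orderOf_two_iff.2 ⟨by rw [← map_mul, Basic.inv_sq_one hx, map_one], fun e => ?_⟩
    have := SECore.odd_orderOf_of_mem hOodd ((QuotientGroup.eq_one_iff x).1 e)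
    rw [hx] at this
    exact absurd this (by decide)
  have hT : SETwoClosed.Hyp Hb := by
    refine ⟨StronglyEmbedded.of_conj (fun e => h.se.1 (eq_top_iff.2 fun g _ =>
      (SETwoClosed.mk_mem_map hOH).1 ((eq_top_iff' _).1 e (π g)))) ?_ ?_,
      fun x hx y hy hx2 hy2 => ?_, π a, ⟨a, hAH a.2, rfl⟩, π b, ⟨b, hAH b.2, rfl⟩,
      himg _ (hord a ha1), himg _ (hord b hb1), fun e => ?_, hcom.map π⟩
    · rw [even_iff_two_dvd, ← himg _ (hord a ha1)]
      exact Subgroup.orderOf_dvd_natCard _ ⟨a, hAH a.2, rfl⟩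
    · intro t ht ht2 g hg
      obtain ⟨x, hx, -, rfl, hxsq⟩ := SETwoClosed.exists_lift hOH hOodd ht
        (SETwoClosed.twoEl_of_sq (Basic.inv_sq_one ht2))
      obtain ⟨g, rfl⟩ := QuotientGroup.mk_surjective g
      refine (SETwoClosed.mk_mem_map hOH).2
        (StronglyEmbedded.mem_of_conj h.se hx ?_ ((SETwoClosed.mk_mem_map hOH).1 hg))
      exact Basic.orderOf_two_iff.2
        ⟨hxsq (Basic.inv_sq_one ht2), fun e => Basic.ne_one ht2 (by rw [e]; rfl)⟩
    · obtain ⟨x', hx', hx'2, rfl, -⟩ := SETwoClosed.exists_lift hOH hOodd hx hx2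
      obtain ⟨y', hy', hy'2, rfl, -⟩ := SETwoClosed.exists_lift hOH hOodd hy hy2
      obtain ⟨k, hk⟩ := h.closed x' hx' y' hy' (hx'2.imp fun i hi => by rw [hi]; exact one_mem _)
        (hy'2.imp fun i hi => by rw [hi]; exact one_mem _)
      exact ⟨k, by rw [← QuotientGroup.mk_mul, ← QuotientGroup.mk_pow]
                   exact (QuotientGroup.eq_one_iff _).2 (hWO hk)⟩
    · refine hab1 (Subtype.ext ?_)
      have h1 : (a : G) * b ∈ O := by
        have := QuotientGroup.eq.1 e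
        rwa [Basic.inv_eq (hord a ha1)] at this
      by_contra hne
      have h2 := SECore.odd_orderOf_of_mem hOodd h1
      rw [← Subgroup.coe_mul, hord (a * b) hab1] at h2
      exact absurd h2 (by decide)
  have hcore : Hb.normalCore = ⊥ := by
    have h1 := Agent.Cores.le_oddCore (N := Hb.normalCore) hT.odd_normalCore
    rwa [show Cfsg.oddCore (G ⧸ O) = ⊥ from Agent.Cores.pPrimeCore_quotient_self 2, le_bot_iff] at h1
  haveI : FaithfulSMul (G ⧸ O) ((G ⧸ O) ⧸ Hb) := ⟨fun {g₁ g₂} e => by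
    have h1 : g₁⁻¹ * g₂ ∈ Hb.normalCore := by
      intro x
      have h2 := e ((x⁻¹ : G ⧸ O) : (G ⧸ O) ⧸ Hb)
      have h3 : (g₁ * x⁻¹)⁻¹ * (g₂ * x⁻¹) ∈ Hb := QuotientGroup.eq.1 h2
      have h4 : (g₁ * x⁻¹)⁻¹ * (g₂ * x⁻¹) = x * (g₁⁻¹ * g₂) * x⁻¹ := by group
      exact h4 ▸ h3
    rw [hcore, mem_bot] at h1
    exact inv_mul_eq_one.1 h1⟩
  obtain ⟨u, huH, hu⟩ := StronglyEmbedded.exists_involution_notMem hT.se
  obtain ⟨x, hx, y, hy, hx2, hy2, hxy, hcxy⟩ := hT.four
  obtain ⟨L, hLn, hLo, hL⟩ := Cfsg.Agent.S1136.result (hT.isRankOneSetup hu huH)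
    ⟨x, y, Basic.ne_one hx2, Basic.ne_one hy2, hxy, Basic.inv_sq_one hx2, Basic.inv_sq_one hy2, hcxy.eq⟩
  refine ⟨L, hLn, hLo, ?_⟩
  rcases hL with ⟨F, iF, jF, ⟨m, hm, hF⟩, hf⟩ | ⟨F, iF, jF, m, hm, hF, hf⟩ | ⟨F, iF, jF, m, hm, hF, hf⟩
  · exact Or.inl ⟨m, F, iF, jF, hm, hF, hf⟩
  · exact Or.inr (Or.inl ⟨m, F, iF, jF, hm, hF, hf⟩)
  · exact Or.inr (Or.inr ⟨m, F, iF, jF, hm, by rw [hF, ← pow_mul, mul_comm, pow_mul]; norm_num, hf⟩)

/-- Among these groups only the unitary one has Sylow subgroups of its type. -/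
theorem psu_of_kind {L : Type u} [Group L] [Finite L] (h : KindTI L) (S : Sylow 2 L) {n : ℕ}
    (hS : UType (S : Subgroup L) n) (F : Type v) [Field F] [Fintype F] (hF : Fintype.card F = 4 ^ n) :
    Nonempty (L ≃* Cfsg.PSU 3 F (2 ^ n)) := by
  haveI : Fact (Nat.Prime 2) := ⟨Nat.prime_two⟩
  have key : ∀ m i, TIData S m i → m = n ∧ i = 3 := by
    intro m i hd
    have h1 : {x : L | x ∈ (S : Subgroup L) ∧ orderOf x = 2} = (ctr (S : Subgroup L) : Set L) \ {1} := by
      ext x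
      simp only [Set.mem_ofPred_eq, Set.mem_sdiff, SetLike.mem_coe, Set.mem_singleton_iff]
      exact ⟨fun hx => ⟨hS.invol x hx.1 (Basic.inv_sq_one hx.2), Basic.ne_one hx.2⟩,
        fun hx => ⟨ctr_le hx.1, Basic.orderOf_two_iff.2 ⟨hS.exp x hx.1, hx.2⟩⟩⟩
    have h2 := hd.ncard_inv
    rw [h1, Set.ncard_sdiff_singleton_of_mem (one_mem _), ← Nat.card_coe_set_eq] at h2
    have h3 : Nat.card ↥(ctr (S : Subgroup L)) = 2 ^ n := hS.card_ctr
    have hmn : m = n := by
      refine Nat.pow_right_injective (le_refl 2) ?_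
      have := Nat.one_le_two_pow (n := m)
      have := Nat.one_le_two_pow (n := n)
      show 2 ^ m = 2 ^ n
      simp only [SetLike.coe_sort_coe] at h2
      omega
    refine ⟨hmn, ?_⟩
    have h4 := hd.card_sylow
    rw [hmn, hS.card] at h4
    exact (Nat.pow_right_injective (Nat.le_self_pow (by have := hS.three_le; omega) 2) h4).symm
  rcases h with ⟨m, K, iK, jK, hm, hK, ⟨f⟩⟩ | ⟨m, K, iK, jK, hm, hK, ⟨f⟩⟩ | ⟨m, K, iK, jK, hm, hK, ⟨f⟩⟩
  · haveI : CharP K 2 := charP_of_card_eq_prime_pow hK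
    obtain ⟨S₀, hS₀⟩ := KindFactsPSLTwo.exists_model (F := K) (CharTwo.two_eq_zero) hm hK
    have := (key _ _ ((facts_of_model hS₀ f).2.2 S)).2
    omega
  · haveI := Suzuki.charTwo hK
    obtain ⟨e⟩ := Suzuki.lieEquiv hm hK
    obtain ⟨S₀, hS₀⟩ := KindFactsSuzuki.exists_model hm hK
    have := (key _ _ ((facts_of_model hS₀ (f.trans e.symm)).2.2 S)).2
    omega
  · have hK2 : Fintype.card K = (2 ^ m) ^ 2 := by
      rw [hK, show 4 = 2 ^ 2 by norm_num, ← pow_mul, ← pow_mul, mul_comm]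
    haveI : CharP K 2 := charP_of_card_eq_prime_pow (f := m * 2) (by rw [hK2, pow_mul])
    obtain ⟨S₀, hS₀⟩ := KindFactsUnitary.exists_model hK2 hm
    obtain ⟨rfl, -⟩ := key _ _ ((facts_of_model hS₀ f).2.2 S)
    obtain ⟨ψ⟩ := MonomialMult.psu_field_equiv (n := 3) (q := 2 ^ m)
      (FiniteField.ringEquivOfCardEq (hK.trans hF.symm))
    exact ⟨f.trans ψ⟩

/-- These groups have no abelian Sylow subgroup with an element of order four. -/
theorem sq_of_kind {L : Type u} [Group L] [Finite L] (h : KindTI L) (S : Sylow 2 L)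
    (hab : ∀ a ∈ (S : Subgroup L), ∀ b ∈ (S : Subgroup L), Commute a b) {x : L}
    (hx : x ∈ (S : Subgroup L)) : x * x = 1 := by
  obtain ⟨m, i, hd⟩ := (kindTI_facts h).2.2 S
  exact hd.center_sq x hx fun s hs => hab x hx s hs

end Cfsg.Agent.SECoreTwoClosed
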