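import Cfsg.Agent.Lib.SECoreTwoClosed.UThree.Cases

/-!
# Groups with a Sylow 2-subgroup of type `U₃(2^n)`, given the core lemma
-/

set_option autoImplicit false
set_option linter.style.haveILetI false
set_option linter.unusedSectionVars false

namespace Cfsg.Agent.SECoreTwoClosed

open Subgroup
open Cfsg.Agent.Involutions

universe u v

variable {G : Type u} [Group G] [Finite G]

/-- A Sylow subgroup normal modulo the odd core gives 2-length one. -/
theorem pLength_of_normal (S : Sylow 2 G)
    (h : normalizer (((S : Subgroup G).map (QuotientGroup.mk' (Cfsg.pPrimeCore 2 G))) :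
      Set (G ⧸ Cfsg.pPrimeCore 2 G)) = ⊤) : Cfsg.PLengthLE 2 1 G := by
  haveI : Fact (Nat.Prime 2) := ⟨Nat.prime_two⟩
  haveI := normalizer_eq_top_iff.1 h
  have hle : (S : Subgroup G) ≤ Cfsg.pPrimePCore 2 G := fun s hs =>
    PLocal.Cores.le_pCore (N := (S : Subgroup G).map (QuotientGroup.mk' (Cfsg.pPrimeCore 2 G)))
      (S.2.map _) ⟨s, hs, rfl⟩
  rw [OddLocal.pLengthLE_one_iff, Nat.coprime_two_right, Nat.odd_iff, ← Nat.two_dvd_ne_zero]
  exact fun hd => S.not_dvd_index (hd.trans (index_dvd_of_le hle))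

/-- In a group of 2-length one without odd core the Sylow subgroup is normal. -/
theorem normal_of_pLength (hO : Cfsg.oddCore G = ⊥) (h : Cfsg.PLengthLE 2 1 G) (S : Sylow 2 G) :
    (S : Subgroup G).Normal := by
  haveI : Fact (Nat.Prime 2) := ⟨Nat.prime_two⟩
  have h1 := OddLocal.pPrimeCore_sup_sylow_normal h S
  rwa [show Cfsg.pPrimeCore 2 G = ⊥ from hO, bot_sup_eq] at h1

theorem pLength_of_sylow_normal (S : Sylow 2 G) [(S : Subgroup G).Normal] : Cfsg.PLengthLE 2 1 G :=
  pLength_of_normal S (normalizer_eq_top_iff.2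
    ((inferInstance : (S : Subgroup G).Normal).map _ (QuotientGroup.mk'_surjective _)))

/-- A quotient without odd core is the group when the core is trivial. -/
noncomputable def quotCoreEquiv (hO : Cfsg.oddCore G = ⊥) : G ⧸ Cfsg.oddCore G ≃* G :=
  (QuotientGroup.quotientMulEquivOfEq hO).trans QuotientGroup.quotientBot

variable {F : Type v} [Field F] [Fintype F] {n : ℕ}

theorem uAlt_of_normal (hO : Cfsg.oddCore G = ⊥) {N : Subgroup G} (hN : N.Normal) (hodd : Odd N.index)
    (e : ↥N ≃* Cfsg.PSU 3 F (2 ^ n)) : UAlt n F G := by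
  set q := quotCoreEquiv hO
  refine ⟨N.map q.symm.toMonoidHom, hN.map _ q.symm.surjective, ?_,
    ⟨(q.symm.subgroupMap N).symm.trans e⟩⟩
  rwa [index_map_of_injective (f := q.symm.toMonoidHom) _ q.symm.injective,
    MonoidHom.range_eq_top.2 q.symm.surjective, index_top, mul_one]

theorem exists_normal_of_uAlt (hO : Cfsg.oddCore G = ⊥) (h : UAlt n F G) :
    ∃ N : Subgroup G, N.Normal ∧ Odd N.index ∧ Nonempty (↥N ≃* Cfsg.PSU 3 F (2 ^ n)) := by
  obtain ⟨N, hN, hodd, ⟨e⟩⟩ := h
  set q := quotCoreEquiv hO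
  refine ⟨N.map q.toMonoidHom, hN.map _ q.surjective, ?_, ⟨(q.subgroupMap N).symm.trans e⟩⟩
  rwa [index_map_of_injective (f := q.toMonoidHom) _ q.injective,
    MonoidHom.range_eq_top.2 q.surjective, index_top, mul_one]

variable {S : Sylow 2 G}

/-- The minimal situation. -/
theorem Min.goal (hcore : CoreLemma.{u}) (M : Min F S n) : Goal n F G := by
  classical
  haveI : Fact (Nat.Prime 2) := ⟨Nat.prime_two⟩
  have h := M.type
  have hnormal : normalizer ((S : Subgroup G) : Set G) = ⊤ → Goal n F G := fun hN => by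
    haveI := normalizer_eq_top_iff.1 hN
    exact Or.inl (pLength_of_sylow_normal S)
  by_cases hcen : ∀ u ∈ ctr (S : Subgroup G), u ∈ center G
  · exact hnormal (M.normal_of_central hcen)
  push Not at hcen
  obtain ⟨u, hu, huc⟩ := hcen
  obtain ⟨Z1, hZ1, hZN, hZ0, hdec⟩ := M.exists_moved
  obtain ⟨a, ha, ha1, -⟩ := tht_moved hdec hu huc
  have hac := noncentral_of_moved hZ0 ha ha1
  obtain ⟨b, hb, hb1, hab⟩ : ∃ b ∈ Z1, b ≠ 1 ∧ a ≠ b := by
    by_contra! hall
    refine hac (M.mem_center_of_fixed (hZ1 ha) fun m hm => ?_)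
    exact (hall _ ((mem_normalizer_iff.1 (hZN hm) a).1 ha) fun e => ha1 (conj_eq_one_iff.1 e)).symm
  by_cases h8 : 8 ≤ Nat.card ↥Z1
  · rcases M.big_case hZ1 hZN hZ0 hdec hcore h8 with hN | ⟨L, hLn, hLo, hkind⟩
    · exact hnormal hN
    · -- identification
      set q := quotCoreEquiv M.core
      have htop : L.map q.toMonoidHom = ⊤ := M.reduced _ (hLn.map _ q.surjective) (by
        rwa [index_map_of_injective (f := q.toMonoidHom) _ q.injective,
          MonoidHom.range_eq_top.2 q.surjective, index_top, mul_one])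
      let e : ↥L ≃* G := (q.subgroupMap L).trans ((MulEquiv.subgroupCongr htop).trans topEquiv)
      set S' : Sylow 2 ↥L := S.mapSurjective (f := e.symm.toMonoidHom) e.symm.surjective
      have hS' : UType (S' : Subgroup ↥L) n :=
        h.of_equiv ((e.symm.subgroupMap (S : Subgroup G)).trans (MulEquiv.subgroupCongr rfl))
      obtain ⟨f⟩ := psu_of_kind hkind S' hS' F M.field_card
      exact Or.inr (uAlt_of_normal M.core (inferInstance : (⊤ : Subgroup G).Normal)
        (by rw [index_top]; exact odd_one) (topEquiv.trans (e.symm.trans f)))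
  · refine hnormal ?_
    have h4 : Nat.card ↥Z1 ≤ 4 := by
      obtain ⟨k, hk⟩ := IsPGroup.iff_card.1 (S.2.to_le (hZ1.trans ctr_le))
      rcases Nat.lt_or_ge k 3 with h3 | h3
      · rw [hk]; exact Nat.pow_le_pow_right (show 0 < 2 by norm_num) (show k ≤ 2 by omega)
      · exact absurd (hk ▸ Nat.pow_le_pow_right (show 0 < 2 by norm_num) h3) h8
    obtain ⟨z, hz, hz1⟩ : ∃ z ∈ ctr0 S, z ≠ 1 := by
      by_contra! hall
      refine h8 (h.eight_le.trans (card_le_of_le fun w hw => ?_))
      obtain ⟨c, hc, hcc, x, hx, rfl⟩ := hdec w hw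
      rw [hall c ⟨hc, hcc⟩, one_mul]
      exact hx
    exact M.normal_of_small hZ1 hZN hZ0 hdec h4 ha hb ha1 hb1 hab hz hz1

/-- The theorem, given the core lemma. -/
theorem goal_of_core (hcore : CoreLemma.{u}) (hF : Fintype.card F = 4 ^ n) :
    ∀ {G : Type u} [Group G] [Finite G] (S : Sylow 2 G), UType (S : Subgroup G) n → Goal n F G := by
  suffices key : ∀ (N : ℕ) (G : Type u) [Group G] [Finite G] (S : Sylow 2 G),
      Nat.card G = N → UType (S : Subgroup G) n → Goal n F G from fun {G} _ _ S h => key _ G S rfl h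
  intro N
  induction N using Nat.strong_induction_on with
  | _ N ih =>
  intro G _ _ S hcard h
  haveI : Fact (Nat.Prime 2) := ⟨Nat.prime_two⟩
  subst hcard
  haveI hOn : (Cfsg.oddCore G).Normal := PLocal.Cores.pPrimeCore_normal'
  by_cases hO : Cfsg.oddCore G = ⊥
  swap
  · -- the quotient by the odd core
    set O := Cfsg.oddCore G
    set π := QuotientGroup.mk' O
    set SQ := S.mapSurjective (f := π) (QuotientGroup.mk'_surjective O)
    have hinj : Function.Injective (π.subgroupMap (S : Subgroup G)) := (injective_iff_map_eq_one _).2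
      fun s hs => by
        obtain ⟨k, hk⟩ := S.2 s
        exact Subtype.ext (SETwoClosed.TwoEl.eq_one_of_odd ⟨k, congrArg Subtype.val hk⟩
          (SECore.odd_orderOf_of_mem Agent.Cores.oddCore_odd
            ((QuotientGroup.eq_one_iff (s : G)).1 (congrArg Subtype.val hs :))))
    have hlt : Nat.card (G ⧸ O) < Nat.card G := by
      rw [card_eq_card_quotient_mul_card_subgroup O]
      exact lt_mul_of_one_lt_right Nat.card_pos ((one_lt_card_iff_ne_bot _).2 hO)
    have hOQ : Cfsg.oddCore (G ⧸ O) = ⊥ := Agent.Cores.pPrimeCore_quotient_self 2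
    rcases ih _ hlt (G ⧸ O) SQ rfl (h.of_equiv ((MulEquiv.ofBijective _
        ⟨hinj, π.subgroupMap_surjective _⟩).trans (MulEquiv.subgroupCongr rfl))) with hl | hu
    · refine Or.inl (pLength_of_normal S ?_)
      exact normalizer_eq_top_iff.2 (normal_of_pLength hOQ hl SQ)
    · obtain ⟨N, hN, hodd, he⟩ := exists_normal_of_uAlt hOQ hu
      exact Or.inr ⟨N, hN, hodd, he⟩
  by_cases hM : ∀ N : Subgroup G, N.Normal → Odd N.index → N = ⊤
  · refine (⟨hF, h, hO, hM, fun X hX hSX => ?_⟩ : Min F S n).goal hcore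
    refine ih _ (lt_of_le_of_ne (card_le_card_group X) fun e => hX (eq_top_of_card_eq X e)) ↥X
      (S.subtype hSX) rfl (h.of_equiv ((subgroupOfEquivOfLe hSX).symm.trans (MulEquiv.subgroupCongr ?_)))
    rfl
  push Not at hM
  obtain ⟨M, hMn, hModd, hMtop⟩ := hM
  haveI := hMn
  have hSM : (S : Subgroup G) ≤ M := fun s hs => by
    obtain ⟨k, hk⟩ := S.2 ⟨s, hs⟩
    rw [← QuotientGroup.eq_one_iff]
    refine SETwoClosed.TwoEl.eq_one_of_odd ⟨k, ?_⟩ (hModd.of_dvd_nat (_root_.orderOf_dvd_natCard _))
    rw [← QuotientGroup.mk_pow, show s ^ 2 ^ k = 1 from congrArg Subtype.val hk, QuotientGroup.mk_one]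
  have hOM : Cfsg.oddCore ↥M = ⊥ :=
    InvChar.Core.oddCore_eq_bot_of_isSubnormal hO (Subgroup.Normal.isSubnormal inferInstance)
  rcases ih _ (lt_of_le_of_ne (card_le_card_group M) fun e => hMtop (eq_top_of_card_eq M e)) ↥M
      (S.subtype hSM) rfl (h.of_equiv ((subgroupOfEquivOfLe hSM).symm.trans (MulEquiv.subgroupCongr rfl)))
    with hl | hu
  · -- the Sylow subgroup is normal
    have hSn := normal_of_pLength hOM hl (S.subtype hSM)
    haveI : ((S.subtype hSM : Sylow 2 ↥M) : Subgroup ↥M).Characteristic :=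
      (S.subtype hSM).characteristic_of_normal hSn
    have hn : (((S.subtype hSM : Sylow 2 ↥M) : Subgroup ↥M).map M.subtype).Normal := inferInstance
    rw [Sylow.coe_subtype, map_subgroupOf_eq_of_le hSM] at hn
    exact Or.inl (pLength_of_sylow_normal S)
  · obtain ⟨N0, hN0, hN0o, ⟨e⟩⟩ := exists_normal_of_uAlt hOM hu
    have hF2 : Fintype.card F = (2 ^ n) ^ 2 := by
      rw [hF, ← pow_mul, mul_comm, pow_mul]; norm_num
    haveI : IsSimpleGroup (Cfsg.PSU 3 F (2 ^ n)) := Cfsg.Agent.S0283.result hF2 3 le_rfl fun hc => by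
      have := Nat.pow_le_pow_right (show 1 ≤ 2 by norm_num) h.three_le
      omega
    haveI : Nontrivial ↥N0 := e.toEquiv.nontrivial
    haveI : IsSimpleGroup ↥N0 :=
      IsSimpleGroup.isSimpleGroup_of_surjective e.symm.toMonoidHom e.symm.surjective
    have heven : 2 ∣ Nat.card ↥N0 := by
      obtain ⟨P⟩ : Nonempty (Sylow 2 (Cfsg.PSU 3 F (2 ^ n))) := inferInstance
      have hP := uType_of_psu h.three_le hF (P : Subgroup (Cfsg.PSU 3 F (2 ^ n))) P (MulEquiv.refl _)
      rw [Nat.card_congr e.toEquiv]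
      refine Dvd.dvd.trans ?_ (card_subgroup_dvd_card (P : Subgroup (Cfsg.PSU 3 F (2 ^ n))))
      rw [hP.card, ← pow_mul]
      exact dvd_pow_self 2 (by have := h.three_le; omega)
    set N1 := N0.map M.subtype
    have hN1 : N1.Normal := ⟨fun x hx g => by
      obtain ⟨x, hx, rfl⟩ := hx
      let c : ↥M →* ↥M := (MulAut.conjNormal g⁻¹).toMonoidHom
      set K := N0.comap c
      have hidx : K.index = N0.index := index_comap_of_surjective _ (MulAut.conjNormal g⁻¹).surjective
      haveI : (K.subgroupOf N0).Normal := (hN0.comap c).comap _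
      rcases IsSimpleGroup.eq_bot_or_eq_top_of_normal (K.subgroupOf N0) inferInstance with h0 | h0
      · exfalso
        have h1 : (K.subgroupOf N0).index ∣ K.index := relIndex_dvd_index_of_normal (H := K) (K := N0)
        rw [h0, index_bot, hidx] at h1
        exact Nat.not_even_iff_odd.2 hN0o (even_iff_two_dvd.2 (heven.trans h1))
      · have hle : N0 ≤ K := subgroupOf_eq_top.1 h0
        have heq : N0 = K := eq_of_le_of_card_ge hle (by
          have h1 := card_mul_index N0
          have h2 := card_mul_index K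
          rw [hidx] at h2
          exact (mul_right_cancel₀ (index_ne_zero_of_finite) (h2.trans h1.symm)).le)
        have h3 : MulAut.conjNormal g x ∈ K := by
          show c (MulAut.conjNormal g x) ∈ N0
          rw [show c (MulAut.conjNormal g x) = x from by
            show MulAut.conjNormal g⁻¹ (MulAut.conjNormal g x) = x
            rw [← MulAut.mul_apply, ← map_mul, inv_mul_cancel, map_one]; rfl]
          exact hx
        exact ⟨MulAut.conjNormal g x, heq ▸ h3, MulAut.conjNormal_apply g x⟩⟩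
    refine Or.inr (uAlt_of_normal hO hN1 ?_ ((N0.equivMapOfInjective _ M.subtype_injective).symm.trans e))
    rw [index_map_of_injective _ M.subtype_injective, range_subtype]
    exact hN0o.mul hModd

end Cfsg.Agent.SECoreTwoClosed
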