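import Cfsg.Agent.Lib.SECoreTwoClosed.Defs
import Cfsg.Agent.Lib.Involutions.SylowPSUThree

/-!
# The Sylow 2-subgroups of `PSU₃(2^n)`, `n ≥ 3`, have the properties `UType`
-/

set_option autoImplicit false
set_option linter.style.haveILetI false
set_option linter.unusedSectionVars false

namespace Cfsg.Agent.SECoreTwoClosed

open Subgroup
open Cfsg.Agent.Involutions.SylowPSUThree Cfsg.Agent.Classical Cfsg.Agent.Classical.Unitary
  Cfsg.Agent.Forms Cfsg.Agent.AutPSU.Centre

universe u v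

variable {G : Type u} [Group G]

theorem mem_ctr {S : Subgroup G} {x : G} (hx : x ∈ S) : x ∈ ctr S ↔ ∀ s ∈ S, s * x = x * s := by
  have h := (mem_map_iff_mem S.subtype_injective (K := center ↥S) (x := ⟨x, hx⟩)).trans Subgroup.mem_center_iff
  rw [ctr]
  exact h.trans ⟨fun h s hs => congrArg Subtype.val (h ⟨s, hs⟩), fun h s => Subtype.ext (h s s.2)⟩

variable {F : Type v} [Field F] [Fintype F] {n : ℕ}

section

variable [CharP F 2] (hF : Fintype.card F = (2 ^ n) ^ 2) (B : Base F n)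
include hF

/-- Two elements of the Heisenberg group commute iff their coordinates pair symmetrically. -/
theorem commute_iff {s t : heis hF B} {b a b' a' : F} (hs : IsCoord B (s : Cfsg.SU 3 F (2 ^ n)) b a)
    (ht : IsCoord B (t : Cfsg.SU 3 F (2 ^ n)) b' a') :
    s * t = t * s ↔ b' * b ^ 2 ^ n = b * b' ^ 2 ^ n := by
  constructor
  · intro h
    have h1 := hs.mul hF B ht
    rw [show ((s : Cfsg.SU 3 F (2 ^ n)) * t) = (t : Cfsg.SU 3 F (2 ^ n)) * s from
      congrArg Subtype.val h] at h1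
    have h2 := (IsCoord.unique hF B h1 (ht.mul hF B hs)).2
    linear_combination h2
  · intro h
    refine Subtype.ext (IsCoord.ext hF B (hs.mul hF B ht) ?_)
    show IsCoord B ((t : Cfsg.SU 3 F (2 ^ n)) * s) _ _
    convert ht.mul hF B hs using 1
    · ring
    · linear_combination h

theorem model_full (s : heis hF B) (hs : s ∉ center (heis hF B)) (z : heis hF B)
    (hz : z ∈ center (heis hF B)) : ∃ t : heis hF B, t * s * t⁻¹ = s * z := by
  obtain ⟨b, a, hsc⟩ := exists_coord hF B s.2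
  obtain ⟨b0, c, hzc⟩ := exists_coord hF B z.2
  obtain rfl := (mem_center_iff' hF B hzc).1 hz
  have hb : b ≠ 0 := fun e => hs ((mem_center_iff' hF B hsc).2 e)
  have hc : c ^ 2 ^ n = c := by
    have := hzc.2
    rw [zero_mul, add_eq_zero_iff_eq_neg, CharTwo.neg_eq] at this
    exact this.symm
  obtain ⟨y, hy⟩ := exists_trace_eq hF hc
  set b' := y / b ^ 2 ^ n with hb'
  have h1 : b' * b ^ 2 ^ n = y := div_mul_cancel₀ _ (pow_ne_zero _ hb)
  have h2 : b * b' ^ 2 ^ n = y ^ 2 ^ n := by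
    rw [← h1, mul_pow, pow_qq hF, mul_comm]
  obtain ⟨a', ha'⟩ := exists_trace_eq hF (norm_fixed hF b')
  obtain ⟨t, ht⟩ := exists_el hF B ha'
  refine ⟨t, mul_inv_eq_iff_eq_mul.2 (Subtype.ext (IsCoord.ext hF B (ht.mul hF B hsc) ?_))⟩
  show IsCoord B ((s : Cfsg.SU 3 F (2 ^ n)) * z * t) _ _
  convert (hsc.mul hF B hzc).mul hF B ht using 1
  · ring
  · rw [add_zero, zero_mul, add_zero]
    linear_combination hy + h2 - h1 - CharTwo.add_self_eq_zero (y : F)

theorem model_cent_comm (s t t' : heis hF B) (hs : s ∉ center (heis hF B)) (h : s * t = t * s)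
    (h' : s * t' = t' * s) : t * t' = t' * t := by
  obtain ⟨b, a, hsc⟩ := exists_coord hF B s.2
  obtain ⟨b1, a1, htc⟩ := exists_coord hF B t.2
  obtain ⟨b2, a2, htc'⟩ := exists_coord hF B t'.2
  have hb : b ≠ 0 := fun e => hs ((mem_center_iff' hF B hsc).2 e)
  have e1 := (commute_iff hF B hsc htc).1 h
  have e2 := (commute_iff hF B hsc htc').1 h'
  refine (commute_iff hF B htc htc').2 (mul_left_cancel₀ hb ?_)
  linear_combination b1 * e2 - b2 * e1

theorem model_two_squares (hn : 3 ≤ n) : ∃ s t : heis hF B, s * s ≠ 1 ∧ t * t ≠ 1 ∧ s * s ≠ t * t := by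
  classical
  obtain ⟨l, hlq, hl0, hl1⟩ : ∃ l : F, l ^ 2 ^ n = l ∧ l ≠ 0 ∧ l ≠ 1 := by
    by_contra hall
    push Not at hall
    have hsub : {a : F | a ^ 2 ^ n = a} ⊆ {0, 1} := fun a ha => by
      by_cases h0 : a = 0
      · exact Or.inl h0
      · exact Or.inr (hall a ha h0)
    have h1 : Nat.card ↥{a : F | a ^ 2 ^ n = a} ≤ 2 := by
      rw [Nat.card_coe_set_eq]
      exact (Set.ncard_le_ncard hsub (Set.toFinite _)).trans
        ((Set.ncard_insert_le _ _).trans (by rw [Set.ncard_singleton]))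
    have h2 : Nat.card {a : F // a ^ 2 ^ n = a} ≤ 2 := h1
    rw [card_fixed hF] at h2
    have := Nat.pow_le_pow_right (show 1 ≤ 2 by norm_num) hn
    omega
  obtain ⟨a, ha⟩ := exists_trace_eq hF (norm_fixed hF (1 : F))
  obtain ⟨a', ha'⟩ := exists_trace_eq hF (norm_fixed hF l)
  obtain ⟨s, hs⟩ := exists_el hF B ha
  obtain ⟨t, ht⟩ := exists_el hF B ha'
  refine ⟨s, t, fun e => one_ne_zero ((mul_self_eq_one hF B hs).1 e),
    fun e => hl0 ((mul_self_eq_one hF B ht).1 e), fun e => hl1 ?_⟩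
  have h1 := mul_self hF B hs
  rw [show ((s : Cfsg.SU 3 F (2 ^ n)) * s) = (t : Cfsg.SU 3 F (2 ^ n)) * t from
    congrArg Subtype.val e] at h1
  have h2 := (IsCoord.unique hF B h1 (mul_self hF B ht)).2
  rw [one_pow, mul_one, hlq] at h2
  have h3 : (l + 1) * (l + 1) = 0 := by
    linear_combination CharTwo.add_self_eq_zero l - h2 + CharTwo.add_self_eq_zero (1 : F)
  have h4 := mul_self_eq_zero.1 h3
  rwa [add_eq_zero_iff_eq_neg, CharTwo.neg_eq] at h4

end

/-- The properties pass to a Sylow subgroup isomorphic to one of `PSU₃(2^n)`. -/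
theorem uType_of_psu [Finite G] (hn : 3 ≤ n) (hF : Fintype.card F = 4 ^ n) (S : Subgroup G)
    (P : Sylow 2 (Cfsg.PSU 3 F (2 ^ n))) (e : ↥S ≃* ↥(P : Subgroup (Cfsg.PSU 3 F (2 ^ n)))) :
    UType S n := by
  haveI : Fact (Nat.Prime 2) := ⟨Nat.prime_two⟩
  have hF' : Fintype.card F = (2 ^ n) ^ 2 := by
    rw [hF, ← pow_mul, mul_comm, pow_mul]; norm_num
  haveI : CharP F 2 := charP_of_card_eq_prime_pow (f := n * 2) (by rw [hF', ← pow_mul])
  obtain ⟨B⟩ := exists_base hF'
  obtain ⟨φ⟩ := sylow_equiv hF' B P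
  let f : heis hF' B ≃* ↥S := φ.trans e.symm
  have hctr : ∀ z : heis hF' B, ((f z : ↥S) : G) ∈ ctr S ↔ z ∈ center (heis hF' B) := fun z => by
    rw [mem_ctr (f z).2, Subgroup.mem_center_iff]
    constructor
    · intro h t
      exact f.injective (Subtype.ext (by rw [map_mul, map_mul]; exact h _ (f t).2))
    · intro h s hs
      obtain ⟨t, ht⟩ := f.surjective ⟨s, hs⟩
      have := congrArg Subtype.val (congrArg f (h t))
      simpa [ht] using this
  have hlift : ∀ x ∈ S, ∃ z, ((f z : ↥S) : G) = x := fun x hx => by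
    obtain ⟨z, hz⟩ := f.surjective ⟨x, hx⟩
    exact ⟨z, congrArg Subtype.val hz⟩
  have hle : ctr S ≤ S := map_subtype_le _
  refine ⟨hn, fun x => ?_, ?_, ?_, fun x hx => ?_, fun x hx h1 => ?_, fun x hx => ?_,
    fun x hx hxc z hz => ?_, fun x hx hxc y hy y' hy' h h' => ?_, ?_⟩
  · obtain ⟨k, hk⟩ := isPGroup_heis hF' B (f.symm x)
    exact ⟨k, f.symm.injective (by rw [map_pow, hk, map_one])⟩
  · rw [← Nat.card_congr f.toEquiv, card_heis hF' B]
  · rw [← card_center hF' B, ctr, card_map_of_injective S.subtype_injective]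
    exact (Nat.card_congr (Subgroup.centerCongr f).toEquiv).symm
  · obtain ⟨z, rfl⟩ := hlift x (hle hx)
    rw [← Subgroup.coe_mul, ← map_mul, isPow_two hF' B z ((hctr z).1 hx), map_one, OneMemClass.coe_one]
  · obtain ⟨z, rfl⟩ := hlift x hx
    refine (hctr z).2 (involution_central hF' B (f.injective (Subtype.ext ?_)))
    rw [map_mul, map_one, Subgroup.coe_mul, h1, OneMemClass.coe_one]
  · obtain ⟨z, rfl⟩ := hlift x hx
    rw [← Subgroup.coe_mul, ← map_mul, hctr]
    exact sq_mem_center hF' B z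
  · obtain ⟨s, rfl⟩ := hlift x hx
    obtain ⟨w, rfl⟩ := hlift z (hle hz)
    obtain ⟨t, ht⟩ := model_full hF' B s (mt (hctr s).2 hxc) w ((hctr w).1 hz)
    refine ⟨(f t : ↥S), (f t).2, ?_⟩
    have := congrArg Subtype.val (congrArg f ht)
    simpa using this
  · obtain ⟨s, rfl⟩ := hlift x hx
    obtain ⟨t, rfl⟩ := hlift y hy
    obtain ⟨t', rfl⟩ := hlift y' hy'
    have hc : ∀ {a b : heis hF' B}, Commute ((f a : ↥S) : G) (f b : ↥S) → a * b = b * a :=
      fun {a b} hab => f.injective (Subtype.ext (by rw [map_mul, map_mul]; exact hab.eq))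
    have := congrArg Subtype.val (congrArg f
      (model_cent_comm hF' B s t t' (mt (hctr s).2 hxc) (hc h) (hc h')))
    simpa [Commute, SemiconjBy] using this
  · obtain ⟨s, t, hs, ht, hst⟩ := model_two_squares hF' B hn
    have hne : ∀ {a b : heis hF' B}, a ≠ b → ((f a : ↥S) : G) ≠ (f b : ↥S) :=
      fun {a b} hab e' => hab (f.injective (Subtype.ext e'))
    refine ⟨(f s : ↥S), (f s).2, (f t : ↥S), (f t).2, ?_, ?_, ?_⟩
    · simpa using hne hs
    · simpa using hne ht
    · simpa using hne hst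

end Cfsg.Agent.SECoreTwoClosed
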