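import Cfsg.Agent.Lib.SECoreTwoClosed.UThree.Ident
import Cfsg.Agent.Lib.SECoreTwoClosed.UThree.Focal

/-!
# The centralizer of a root lies in the controlling subgroup

If the part of `Z(S)` moved by `N(S)` has order at most four, the centralizers of the roots of central
involutions are solvable; in any case they lie in a proper subgroup containing `N(S)` and the centralizers
of the noncentral involutions, given the core lemma and a normal subgroup of odd order of that subgroup.
-/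

set_option autoImplicit false
set_option linter.style.haveILetI false
set_option linter.unusedSectionVars false

namespace Cfsg.Agent.SECoreTwoClosed

open Subgroup
open Cfsg.Agent.Involutions

universe u v

variable {G : Type u} [Group G] [Finite G] {S : Sylow 2 G} {n : ℕ}
variable {y : G} {L : Subgroup ↥(cenY y)}

/-- The involutions, with the identity, of a subgroup of the Sylow subgroup of `L`. -/
def omegaL (S : Sylow 2 G) (L : Subgroup ↥(cenY y)) : Subgroup ↥L :=
  (ctr (S : Subgroup G)).comap ((cenY y).subtype.comp L.subtype)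

theorem mem_omegaL {x : ↥L} : x ∈ omegaL S L ↔ ((x : ↥(cenY y)) : G) ∈ ctr (S : Subgroup G) := Iff.rfl

theorem card_omegaL_le {Z1 : Subgroup G}
    (hdec : ∀ u ∈ ctr (S : Subgroup G), ∃ c ∈ ctr (S : Subgroup G), c ∈ center G ∧ ∃ x ∈ Z1, c * x = u)
    (hnc : ∀ x ∈ omegaL S L, ((x : ↥(cenY y)) : G) ∈ center G → x = 1) :
    Nat.card ↥(omegaL S L) ≤ Nat.card ↥Z1 := by
  classical
  choose c hc hcc x hx hcx using hdec
  refine Nat.card_le_card_of_injective (fun e : ↥(omegaL S L) => (⟨x _ e.2, hx _ e.2⟩ : ↥Z1)) ?_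
  intro a b e
  have e' : x _ a.2 = x _ b.2 := congrArg Subtype.val e
  refine Subtype.ext (mul_inv_eq_one.1 (hnc _ (mul_mem a.2 (inv_mem b.2)) ?_))
  show ((a : ↥L) : ↥(cenY y)).1 * (((b : ↥L) : ↥(cenY y)).1)⁻¹ ∈ center G
  have ea := hcx _ a.2
  have eb := hcx _ b.2
  simp only [MonoidHom.coe_comp, Function.comp_apply, coe_subtype] at ea eb e' ⊢
  rw [← ea, ← eb, e', mul_inv_rev]
  simp only [mul_assoc, mul_inv_cancel_left]
  exact mul_mem (hcc _ a.2) (inv_mem (hcc _ b.2))

variable {F : Type v} [Field F] [Fintype F] (M : Min F S n) (hy : y ∈ (S : Subgroup G))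
  (hyc : y ∉ ctr (S : Subgroup G))
include M hy hyc

theorem commute_ctr_cenY {u : G} (hu : u ∈ ctr (S : Subgroup G)) : u ∈ cenY y :=
  mem_cenY.2 (commute_ctr hu hy).eq

/-- The Sylow subgroup of the focal kernel and its involutions. -/
theorem exists_sylow_L [L.Normal] (T : Sylow 2 ↥(cenY y))
    (hT : ∀ x : ↥(cenY y), x ∈ (T : Subgroup ↥(cenY y)) ↔ (x : G) ∈ (S : Subgroup G)) :
    ∃ TL : Sylow 2 ↥L, (∀ x : ↥L, x ∈ (TL : Subgroup ↥L) ↔ ((x : ↥(cenY y)) : G) ∈ (S : Subgroup G)) ∧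
      omegaL S L ≤ (TL : Subgroup ↥L) ∧
      (∀ x ∈ (TL : Subgroup ↥L), x * x = 1 → x ∈ omegaL S L) ∧
      (∀ x ∈ omegaL S L, x * x = 1) ∧ (∀ x ∈ (TL : Subgroup ↥L), x * x ∈ omegaL S L) := by
  haveI : Fact (Nat.Prime 2) := ⟨Nat.prime_two⟩
  refine ⟨IsPGroup.toSylow (T.2.comap_subtype (K := L))
    (Cores.sylow_subgroupOf_isSubnormal T (Subgroup.Normal.isSubnormal inferInstance)),
    fun x => hT _, fun x hx => ?_, fun x hx e => ?_, fun x hx => ?_, fun x hx => ?_⟩
  · exact (hT _).2 (ctr_le hx)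
  · exact M.type.invol _ ((hT _).1 hx) (congrArg Subtype.val (congrArg Subtype.val e))
  · exact Subtype.ext (Subtype.ext (M.type.exp _ hx))
  · exact M.type.sq _ ((hT _).1 hx)

/-- With at most four involutions in the focal kernel the centralizer of a root is solvable. -/
theorem Min.solvable_of_focal [hLn : L.Normal] (T : Sylow 2 ↥(cenY y))
    (hT : ∀ x : ↥(cenY y), x ∈ (T : Subgroup ↥(cenY y)) ↔ (x : G) ∈ (S : Subgroup G))
    (hLT : L ⊔ (T : Subgroup ↥(cenY y)) = ⊤)
    (hroot : ∀ x ∈ L, x ∈ (T : Subgroup ↥(cenY y)) → x * x = 1 →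
      ∃ d ∈ L, d ∈ (T : Subgroup ↥(cenY y)) ∧ d * d = x)
    (huniq : ∀ x ∈ L, x ∈ (T : Subgroup ↥(cenY y)) → x * x = 1 →
      (∀ x' ∈ L, x' ∈ (T : Subgroup ↥(cenY y)) → x' * x' = 1 → x' = 1 ∨ x' = x) → x = 1)
    (hE4 : Nat.card ↥(omegaL S L) ≤ 4) : Group.IsSolvable ↥(cenY y) := by
  classical
  haveI : Fact (Nat.Prime 2) := ⟨Nat.prime_two⟩
  obtain ⟨TL, hTL, hET, hinv, hexp, hsq⟩ := exists_sylow_L M hy hyc (L := L) T hT
  set E := omegaL S L
  have hab : ∀ a ∈ (TL : Subgroup ↥L), ∀ b ∈ (TL : Subgroup ↥L), Commute a b :=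
    ((abTwo_sub M.type hy hyc).subgroup L) _ TL.2
  haveI hL : Group.IsSolvable ↥L := by
    obtain ⟨k, hk⟩ := IsPGroup.iff_card.1 (TL.2.to_le hET)
    rcases Nat.lt_or_ge k 2 with hk2 | hk2
    · -- at most one involution: odd order
      refine Cfsg.Agent.S0205.result (Nat.not_even_iff_odd.1 fun hev => ?_)
      obtain ⟨⟨x, hx⟩, hx2⟩ := exists_prime_orderOf_dvd_card' (G := ↥(TL : Subgroup ↥L)) 2
        (TL.dvd_card_of_dvd_card (even_iff_two_dvd.1 hev))
      rw [Subgroup.orderOf_mk] at hx2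
      refine Basic.ne_one hx2 (Subtype.ext (huniq x x.2 ((hT _).2 ((hTL x).1 hx))
        (congrArg Subtype.val (Basic.inv_sq_one hx2)) fun x' hx'L hx'T hx'2 => ?_))
      by_contra hne
      push Not at hne
      have hxE : x ∈ E := hinv x hx (Basic.inv_sq_one hx2)
      have hx'E : (⟨x', hx'L⟩ : ↥L) ∈ E := hinv _ ((hTL _).2 ((hT _).1 hx'T)) (Subtype.ext hx'2)
      haveI := Fintype.ofFinite ↥E
      have h3 : ({1, ⟨x, hxE⟩, ⟨_, hx'E⟩} : Finset ↥E).card ≤ Fintype.card ↥E := Finset.card_le_univ _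
      rw [← Nat.card_eq_fintype_card, hk, Finset.card_insert_of_notMem, Finset.card_pair] at h3
      · have := Nat.pow_le_pow_right (show 0 < 2 by norm_num) (show k ≤ 1 by omega)
        omega
      · exact fun e => hne.2 (congrArg Subtype.val (congrArg Subtype.val e)).symm
      · simp only [Finset.mem_insert, Finset.mem_singleton, Subtype.ext_iff, not_or]
        exact ⟨fun e => Basic.ne_one hx2 (Subtype.ext (Subtype.ext e.symm)),
          fun e => hne.1 (Subtype.ext e.symm)⟩
    · -- four involutions: homocyclic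
      have hE : Nat.card ↥E = 4 := by
        have := Nat.pow_le_pow_right (show 0 < 2 by norm_num) hk2
        omega
      let f : ↥(TL : Subgroup ↥L) →* ↥E :=
        { toFun := fun s => ⟨(s : ↥L) * s, hsq _ s.2⟩
          map_one' := Subtype.ext (one_mul 1)
          map_mul' := fun a b => Subtype.ext (by
            show (a : ↥L) * b * ((a : ↥L) * b) = (a : ↥L) * a * ((b : ↥L) * b)
            rw [mul_assoc (a : ↥L) b, ← mul_assoc (b : ↥L) a b, (hab b b.2 a a.2).eq,
              mul_assoc (a : ↥L) b b, ← mul_assoc (a : ↥L)]) }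
      have hrf : f.range = ⊤ := MonoidHom.range_eq_top.2 fun v => by
        obtain ⟨d, hd, hdT, e⟩ := hroot _ (v.1).2 ((hT _).2 (ctr_le v.2)) (congrArg Subtype.val (hexp _ v.2))
        exact ⟨⟨⟨d, hd⟩, (hTL _).2 ((hT _).1 hdT)⟩, Subtype.ext (Subtype.ext e)⟩
      have hker : Nat.card ↥f.ker = 4 := by
        rw [← hE]
        exact Nat.card_congr
          { toFun := fun s => ⟨((s : ↥(TL : Subgroup ↥L)) : ↥L), hinv _ (s.1).2 (congrArg Subtype.val s.2)⟩
            invFun := fun v => ⟨⟨v, hET v.2⟩, Subtype.ext (hexp _ v.2)⟩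
            left_inv := fun _ => rfl
            right_inv := fun _ => rfl }
      have h16 : Nat.card ↥(TL : Subgroup ↥L) = 16 := by
        rw [← card_mul_index f.ker, hker, index_ker, hrf, Subgroup.card_top, hE]
      obtain ⟨e⟩ := UFourType.homocyclic_equiv h16 hE hET hexp
        (fun v hv s hs => (hab v (hET hv) s hs).eq) hinv hsq fun v hv _ => by
          obtain ⟨t, ht⟩ := MonoidHom.range_eq_top.1 hrf ⟨v, hv⟩
          have ht' : (t : ↥L) * t = v := congrArg Subtype.val ht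
          rw [← hker]
          exact Nat.card_congr
            { toFun := fun s => ⟨t⁻¹ * s.1, by
                rw [MonoidHom.mem_ker, map_mul, map_inv, ht, inv_mul_eq_one]
                exact Subtype.ext s.2.symm⟩
              invFun := fun s => ⟨t * s.1, by
                have h1 : f (t * s.1) = ⟨v, hv⟩ := by
                  rw [map_mul, ht, MonoidHom.mem_ker.1 s.2, mul_one]
                exact congrArg Subtype.val h1⟩
              left_inv := fun s => Subtype.ext (mul_inv_cancel_left t s.1)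
              right_inv := fun s => Subtype.ext (inv_mul_cancel_left t s.1) }
      haveI hOn : (Cfsg.oddCore ↥L).Normal := PLocal.Cores.pPrimeCore_normal'
      haveI : Group.IsSolvable ↥(Cfsg.oddCore ↥L) := Cfsg.Agent.S0205.result Agent.Cores.oddCore_odd
      set π := QuotientGroup.mk' (Cfsg.oddCore ↥L)
      set TQ := TL.mapSurjective (QuotientGroup.mk'_surjective (Cfsg.oddCore ↥L))
      have hinj : ∀ s ∈ (TL : Subgroup ↥L), π s = 1 → s = 1 := fun s hs hs1 => by
        obtain ⟨j, hj⟩ := TL.2 ⟨s, hs⟩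
        exact SETwoClosed.TwoEl.eq_one_of_odd ⟨j, congrArg Subtype.val hj⟩
          (SECore.odd_orderOf_of_mem Agent.Cores.oddCore_odd ((QuotientGroup.eq_one_iff s).1 hs1))
      have eQ : ↥(TL : Subgroup ↥L) ≃* ↥(TQ : Subgroup (↥L ⧸ Cfsg.oddCore ↥L)) :=
        MulEquiv.ofBijective (π.subgroupMap (TL : Subgroup ↥L))
          ⟨(injective_iff_map_eq_one _).2 fun s hs =>
            Subtype.ext (hinj s s.2 (congrArg Subtype.val hs)), MonoidHom.subgroupMap_surjective _ _⟩
      obtain ⟨hn, -, hidx⟩ := Cfsg.Agent.S0949.result TQ 2 le_rfl (eQ.symm.trans e) fun N hN hodd => by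
        have h1 := Agent.Cores.le_oddCore (N := N) hodd
        rwa [show Cfsg.oddCore (↥L ⧸ Cfsg.oddCore ↥L) = ⊥ from Agent.Cores.pPrimeCore_quotient_self 2,
          le_bot_iff] at h1
      haveI := hn
      haveI : Group.IsSolvable ↥(TQ : Subgroup (↥L ⧸ Cfsg.oddCore ↥L)) := by
        haveI := TQ.2.isNilpotent
        infer_instance
      haveI : Group.IsSolvable ((↥L ⧸ Cfsg.oddCore ↥L) ⧸ (TQ : Subgroup (↥L ⧸ Cfsg.oddCore ↥L))) :=
        Cfsg.Agent.S0205.result (by
          rw [show Nat.card ((↥L ⧸ Cfsg.oddCore ↥L) ⧸ (TQ : Subgroup (↥L ⧸ Cfsg.oddCore ↥L))) =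
            (TQ : Subgroup (↥L ⧸ Cfsg.oddCore ↥L)).index from rfl]
          rcases hidx with hidx | hidx <;> rw [hidx] <;> decide)
      haveI : Group.IsSolvable (↥L ⧸ Cfsg.oddCore ↥L) :=
        Group.isSolvable_of_ker_le_range (TQ : Subgroup (↥L ⧸ Cfsg.oddCore ↥L)).subtype
          (QuotientGroup.mk' (TQ : Subgroup (↥L ⧸ Cfsg.oddCore ↥L)))
          (by rw [QuotientGroup.ker_mk', range_subtype])
      exact Group.isSolvable_of_ker_le_range (Cfsg.oddCore ↥L).subtype π
        (by rw [QuotientGroup.ker_mk', range_subtype])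
  -- the abelian quotient
  haveI : Group.IsSolvable (↥(cenY y) ⧸ L) := Group.isSolvable_of_comm fun a b => by
    have hs : ∀ q : ↥(cenY y) ⧸ L, ∃ s ∈ (T : Subgroup ↥(cenY y)), QuotientGroup.mk' L s = q := fun q => by
      obtain ⟨g, rfl⟩ := QuotientGroup.mk'_surjective L q
      obtain ⟨l, hl, s, hs, rfl⟩ := Subgroup.mem_sup_of_normal_left.1 (hLT ▸ mem_top g : g ∈ L ⊔ _)
      exact ⟨s, hs, by rw [map_mul, show QuotientGroup.mk' L l = 1 from (QuotientGroup.eq_one_iff l).2 hl,
        one_mul]⟩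
    obtain ⟨s, hs', rfl⟩ := hs a
    obtain ⟨t, ht', rfl⟩ := hs b
    rw [← map_mul, ← map_mul, (abTwo_sub M.type hy hyc _ T.2 s hs' t ht').eq]
  exact Group.isSolvable_of_ker_le_range L.subtype (QuotientGroup.mk' L)
    (by rw [QuotientGroup.ker_mk', range_subtype])

/-- With a small moved part the centralizer of a root is solvable. -/
theorem Min.solvable_cenY (hy2 : y * y ∈ center G) {Z1 : Subgroup G}
    (hdec : ∀ u ∈ ctr (S : Subgroup G), ∃ c ∈ ctr (S : Subgroup G), c ∈ center G ∧ ∃ x ∈ Z1, c * x = u)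
    (h4 : Nat.card ↥Z1 ≤ 4) : Group.IsSolvable ↥(cenY y) := by
  obtain ⟨T, hT⟩ := exists_sylow_cenY M.type hy hyc
  obtain ⟨L, hLn, hLT, hnc, hroot, huniq⟩ := exists_focal M.type hy hyc hy2 T hT
  refine M.solvable_of_focal hy hyc T hT hLT hroot huniq ((card_omegaL_le hdec fun x hx hxc => ?_).trans h4)
  exact Subtype.ext (hnc x x.2 ((hT _).2 (ctr_le hx))
    (Subtype.ext (M.type.exp _ hx)) hxc)

variable {X : Subgroup G} (hN : normalizer ((S : Subgroup G) : Set G) ≤ X)
  (hC : ∀ u ∈ ctr (S : Subgroup G), u ∉ center G → centralizer ({u} : Set G) ≤ X)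
  {a b : G} (ha : a ∈ ctr (S : Subgroup G)) (hb : b ∈ ctr (S : Subgroup G))
  (hac : a ∉ center G) (hbc : b ∉ center G) (habc : a * b ∉ center G)
include hN hC ha hb hac hbc habc

/-- An odd subgroup of the centralizer normalized by two noncentral involutions lies in `X`. -/
theorem Min.odd_le {D : Subgroup G} (hD : Odd (Nat.card ↥D)) (haD : a ∈ normalizer (D : Set G))
    (hbD : b ∈ normalizer (D : Set G)) : D ≤ X :=
  SECore.le_of_four hD (M.type.exp a ha) (M.type.exp b hb) (commute_ctr ha (ctr_le hb)) haD hbD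
    fun x _ hx => by
      rcases hx with hx | hx | hx
      · exact hC a ha hac (mem_centralizer_singleton_iff.2 hx.eq)
      · exact hC b hb hbc (mem_centralizer_singleton_iff.2 hx.eq)
      · exact hC _ (mul_mem ha hb) habc (mem_centralizer_singleton_iff.2 hx.eq)

theorem Min.odd_normal_le {D : Subgroup ↥(cenY y)} [D.Normal] (hD : Odd (Nat.card ↥D)) :
    D.map (cenY y).subtype ≤ X := by
  have hn : ∀ u ∈ ctr (S : Subgroup G), u ∈ normalizer (D.map (cenY y).subtype : Set G) := fun u hu =>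
    mem_normalizer_fintype fun x hx => by
      obtain ⟨d, hd, rfl⟩ := hx
      exact ⟨⟨u, commute_ctr_cenY M hy hyc hu⟩ * d * (⟨u, commute_ctr_cenY M hy hyc hu⟩ : ↥(cenY y))⁻¹,
        Subgroup.Normal.conj_mem inferInstance d hd _, rfl⟩
  exact M.odd_le hy hyc hN hC ha hb hac hbc habc
    (by rwa [card_map_of_injective (cenY y).subtype_injective]) (hn a ha) (hn b hb)

/-- A solvable centralizer of a root lies in `X`. -/
theorem Min.cenY_le_of_solvable (hsol : Group.IsSolvable ↥(cenY y)) : cenY y ≤ X := by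
  haveI := hsol
  obtain ⟨T, hT⟩ := exists_sylow_cenY M.type hy hyc
  intro g hg
  obtain ⟨w, hw, m, hm, e⟩ :=
    SEAbelian.exists_core_mul_normalizer (abTwo_sub M.type hy hyc) T (⟨g, hg⟩ : ↥(cenY y))
  haveI : (Cfsg.oddCore ↥(cenY y)).Normal := PLocal.Cores.pPrimeCore_normal'
  rw [show g = (w : G) * (m : G) from (congrArg Subtype.val e).symm]
  refine mul_mem (M.odd_normal_le hy hyc hN hC ha hb hac hbc habc Agent.Cores.oddCore_odd
    (mem_map_of_mem _ hw)) ?_
  have hau : (⟨a, commute_ctr_cenY M hy hyc ha⟩ : ↥(cenY y)) ∈ (T : Subgroup ↥(cenY y)) :=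
    (hT _).2 (ctr_le ha)
  exact M.mem_of_conj hN hC (le_normalizer.trans hN (ctr_le ha)) (M.type.exp a ha) hac
    (le_normalizer.trans hN ((hT _).1 ((mem_normalizer_iff.1 hm _).1 hau)))

/-- The centralizer of a root lies in `X`, given the core lemma. -/
theorem Min.cenY_le (hy2 : y * y ∈ center G) (hcore : CoreLemma.{u})
    {W : Subgroup G} (hW : Odd (Nat.card ↥W)) (hWX : W ≤ X) (hXW : X ≤ normalizer (W : Set G))
    (hcl : ∀ p ∈ X, ∀ q ∈ X, (∃ k : ℕ, p ^ (2 ^ k) ∈ W) → (∃ k : ℕ, q ^ (2 ^ k) ∈ W) →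
      ∃ k : ℕ, (p * q) ^ (2 ^ k) ∈ W) : cenY y ≤ X := by
  classical
  haveI : Fact (Nat.Prime 2) := ⟨Nat.prime_two⟩
  obtain ⟨T, hT⟩ := exists_sylow_cenY M.type hy hyc
  obtain ⟨L, hLn, hLT, hnc, hroot, huniq⟩ := exists_focal M.type hy hyc hy2 T hT
  obtain ⟨TL, hTL, hET, hinv, hexp, hsq⟩ := exists_sylow_L M hy hyc (L := L) T hT
  have hSX : (S : Subgroup G) ≤ X := le_normalizer.trans hN
  by_contra hnot
  have hLX : ¬ L.map (cenY y).subtype ≤ X := fun hle => hnot fun g hg => by
    obtain ⟨l, hl, s, hs, e⟩ := Subgroup.mem_sup_of_normal_left.1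
      (hLT ▸ mem_top _ : (⟨g, hg⟩ : ↥(cenY y)) ∈ L ⊔ _)
    rw [show g = (l : G) * (s : G) from (congrArg Subtype.val e).symm]
    exact mul_mem (hle (mem_map_of_mem _ hl)) (hSX ((hT s).1 hs))
  set ι := (cenY y).subtype.comp L.subtype
  set H := X.comap ι
  set WL := W.comap ι
  have hιinj : Function.Injective ι := (cenY y).subtype_injective.comp L.subtype_injective
  set E := omegaL S L
  have hncE : ∀ x ∈ E, ι x ∈ center G → x = 1 := fun x hx hxc =>
    Subtype.ext (hnc x x.2 ((hT _).2 (ctr_le hx)) (congrArg Subtype.val (hexp x hx)) hxc)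
  -- involutions of `L` are noncentral
  have hinvnc : ∀ t : ↥L, orderOf t = 2 → ι t ∉ center G := fun t ht hc => by
    obtain ⟨R, hR⟩ := (SEAbelian.isPGroup_zpowers (x := t) (k := 1)
      (by rw [pow_one, pow_two, Basic.inv_sq_one ht])).exists_le_sylow
    obtain ⟨g, hg⟩ := MulAction.exists_smul_eq ↥L R TL
    have hmem : g * t * g⁻¹ ∈ (TL : Subgroup ↥L) := by
      rw [← hg, ← SetLike.mem_coe, Sylow.coe_subgroup_smul]
      exact ⟨t, hR (mem_zpowers t), rfl⟩
    have h2 : g * t * g⁻¹ * (g * t * g⁻¹) = 1 := by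
      rw [show g * t * g⁻¹ * (g * t * g⁻¹) = g * (t * t) * g⁻¹ by group, Basic.inv_sq_one ht, mul_one,
        mul_inv_cancel]
    refine Basic.ne_one ht (conj_eq_one_iff.1 (hncE _ (hinv _ hmem h2) ?_))
    rw [map_mul, map_mul, map_inv, mem_center_iff.1 hc (ι g), mul_inv_cancel_right]
    exact hc
  obtain ⟨t, ht⟩ : ∃ t : ↥L, orderOf t = 2 := by
    by_contra! hno
    refine hLX (M.odd_normal_le hy hyc hN hC ha hb hac hbc habc (Nat.not_even_iff_odd.1 fun he => ?_))
    obtain ⟨t, ht⟩ := exists_prime_orderOf_dvd_card' (G := ↥L) 2 (even_iff_two_dvd.1 he)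
    exact hno t ht
  have hTLH : (TL : Subgroup ↥L) ≤ H := fun x hx => hSX ((hTL x).1 hx)
  have hse : Cfsg.IsStronglyEmbedded H := by
    refine StronglyEmbedded.of_conj (fun e => hLX ?_) ?_ fun s hs hs2 g hg => ?_
    · rintro _ ⟨l, hl, rfl⟩
      exact ((eq_top_iff' _).1 e ⟨l, hl⟩ :)
    · obtain ⟨R, hR⟩ := (SEAbelian.isPGroup_zpowers (x := t) (k := 1)
        (by rw [pow_one, pow_two, Basic.inv_sq_one ht])).exists_le_sylow
      obtain ⟨g, hg⟩ := MulAction.exists_smul_eq ↥L R TL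
      have hmem : g * t * g⁻¹ ∈ (TL : Subgroup ↥L) := by
        rw [← hg, ← SetLike.mem_coe, Sylow.coe_subgroup_smul]
        exact ⟨t, hR (mem_zpowers t), rfl⟩
      rw [even_iff_two_dvd, ← ht, ← Basic.orderOf_conj g t]
      exact Subgroup.orderOf_dvd_natCard _ (hTLH hmem)
    · show ι g ∈ X
      refine M.mem_of_conj hN hC (t := ι s) hs ?_ (hinvnc s hs2) ?_
      · rw [← map_mul, Basic.inv_sq_one hs2, map_one]
      · rw [← map_inv, ← map_mul, ← map_mul]
        exact hg
  by_cases hE8 : 8 ≤ Nat.card ↥E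
  · -- the core lemma and theorem T
    have hHyp : Hyp H WL := by
      refine ⟨hse, fun x hx => hWX hx, fun g hg => mem_normalizer_fintype fun x hx => ?_, ?_,
        fun p hp q hq hpk hqk => ?_, E, hET.trans hTLH, ?_, hE8⟩
      · show ι (g * x * g⁻¹) ∈ W
        rw [map_mul, map_mul, map_inv]
        exact (mem_normalizer_iff.1 (hXW hg) _).1 hx
      · rw [← card_map_of_injective hιinj]
        exact hW.of_dvd_nat (card_dvd_of_le (map_comap_le _ _))
      · obtain ⟨k, hk⟩ := hcl (ι p) hp (ι q) hq (hpk.imp fun i hi => by rw [← map_pow]; exact hi)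
          (hqk.imp fun i hi => by rw [← map_pow]; exact hi)
        exact ⟨k, by rw [mem_comap, map_pow, map_mul]; exact hk⟩
      · refine PLocal.ThompsonSubgroup.isElementaryAbelian_iff.mpr
          ⟨fun p hp q hq => hιinj ?_, fun p hp => by rw [pow_two]; exact hexp p hp⟩
        rw [map_mul, map_mul]
        exact (commute_ctr hp (ctr_le hq)).eq
    obtain ⟨-, L', hL'n, hL'o, hkind⟩ := kind_of_hyp hcore hHyp
    haveI : Nontrivial ↥E := Finite.one_lt_card_iff_nontrivial.1 (by omega)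
    obtain ⟨⟨x, hxE⟩, hx1⟩ := exists_ne (1 : ↥E)
    obtain ⟨d, hdL, hdT, hdd⟩ := hroot x x.2 ((hT _).2 (ctr_le hxE)) (congrArg Subtype.val (hexp x hxE))
    set π := QuotientGroup.mk' (Cfsg.oddCore ↥L)
    set d' : ↥L := ⟨d, hdL⟩
    have hd2 : d' ^ 2 ^ 2 = 1 := by
      have e1 : d' * d' = x := Subtype.ext hdd
      rw [show (2 : ℕ) ^ 2 = 2 * 2 by norm_num, pow_mul, pow_two, pow_two, e1]
      exact hexp x hxE
    have hdd' : π (d' * d') = 1 := by
      have hmem : π d' ∈ L' := by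
        rw [← QuotientGroup.eq_one_iff]
        refine SETwoClosed.TwoEl.eq_one_of_odd ⟨2, ?_⟩ ?_
        · rw [← QuotientGroup.mk_pow, ← map_pow, hd2, map_one, QuotientGroup.mk_one]
        · exact hL'o.of_dvd_nat (_root_.orderOf_dvd_natCard _)
      obtain ⟨R, hR⟩ := (SEAbelian.isPGroup_zpowers (x := (⟨π d', hmem⟩ : ↥L')) (k := 2)
        (Subtype.ext (by rw [Subgroup.coe_pow, ← map_pow, hd2, map_one]; rfl))).exists_le_sylow
      have h1 := sq_of_kind hkind R (fun p hp q hq =>
        (((abTwo_sub M.type hy hyc).subgroup L).map (QuotientGroup.mk'_surjective _)).subgroup L'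
          _ R.2 p hp q hq) (hR (mem_zpowers _))
      exact (map_mul π d' d').trans (congrArg Subtype.val h1)
    have hxO : x ∈ Cfsg.oddCore ↥L := by
      rw [← QuotientGroup.eq_one_iff, show x = d' * d' from (Subtype.ext hdd).symm]
      exact hdd'
    have hxo := SECore.odd_orderOf_of_mem Agent.Cores.oddCore_odd hxO
    rw [Basic.orderOf_two_iff.2 ⟨hexp x hxE, fun e => hx1 (Subtype.ext e)⟩] at hxo
    exact absurd hxo (by decide)
  · -- small rank: the centralizer is solvable
    refine hnot (M.cenY_le_of_solvable hy hyc hN hC ha hb hac hbc habc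
      (M.solvable_of_focal hy hyc T hT hLT hroot huniq ?_))
    obtain ⟨k, hk⟩ := IsPGroup.iff_card.1 (TL.2.to_le hET)
    show Nat.card ↥E ≤ 4
    rcases Nat.lt_or_ge k 3 with h3 | h3
    · rw [hk]; exact Nat.pow_le_pow_right (show 0 < 2 by norm_num) (show k ≤ 2 by omega)
    · exact absurd (hk ▸ Nat.pow_le_pow_right (show 0 < 2 by norm_num) h3) hE8

end Cfsg.Agent.SECoreTwoClosed
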