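import Cfsg.Agent.Lib.ZStar.CentralWeaklyClosed
import Cfsg.Agent.Lib.SECoreTwoClosed.UThree.Root

/-!
# The quotient by the central involutions of the Sylow centre
-/

set_option autoImplicit false
set_option linter.style.haveILetI false
set_option linter.unusedSectionVars false

namespace Cfsg.Agent.SECoreTwoClosed

open Subgroup
open Cfsg.Agent.Involutions

universe u v

variable {G : Type u} [Group G] [Finite G]

/-- The central elements of the centre of `S`. -/
def ctr0 (S : Sylow 2 G) : Subgroup G := ctr (S : Subgroup G) ⊓ center G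

instance ctr0_normal (S : Sylow 2 G) : (ctr0 S).Normal :=
  ⟨fun x hx g => by rw [mem_center_iff.1 hx.2 g, mul_inv_cancel_right]; exact hx⟩

variable {S : Sylow 2 G} {n : ℕ}

theorem ctr0_le : ctr0 S ≤ ctr (S : Subgroup G) := inf_le_left

theorem ctr0_le_center : ctr0 S ≤ center G := inf_le_right

theorem ctr0_le_normalizer : ctr0 S ≤ normalizer ((S : Subgroup G) : Set G) :=
  ctr0_le.trans (ctr_le.trans le_normalizer)

variable (h : UType (S : Subgroup G) n)
include h

/-- An involution of the quotient is, up to conjugation in an overgroup of `S`, the image of a noncentral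
involution of the centre or of a root of a central involution. -/
theorem UType.exists_lift_conj {X : Subgroup G} (hSX : (S : Subgroup G) ≤ X) {t : G ⧸ ctr0 S}
    (ht : t ∈ X.map (QuotientGroup.mk' (ctr0 S))) (ht2 : orderOf t = 2) :
    ∃ g ∈ X, QuotientGroup.mk' (ctr0 S) g = t ∧ ∃ m ∈ X, m * g * m⁻¹ ∈ (S : Subgroup G) ∧
      g ∉ ctr0 S ∧ g * g ∈ ctr0 S ∧
      ((g * g = 1 ∧ g ∉ center G ∧ m * g * m⁻¹ ∈ ctr (S : Subgroup G)) ∨
       (m * g * m⁻¹ ∉ ctr (S : Subgroup G) ∧ (m * g * m⁻¹) * (m * g * m⁻¹) ∈ center G)) := by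
  obtain ⟨g, hg, rfl⟩ := ht
  have hgg : g * g ∈ ctr0 S := (QuotientGroup.eq_one_iff _).1 (by
    show QuotientGroup.mk' (ctr0 S) (g * g) = 1
    rw [map_mul]; exact Basic.inv_sq_one ht2)
  have hg0 : g ∉ ctr0 S := fun hc => Basic.ne_one ht2 ((QuotientGroup.eq_one_iff g).2 hc)
  have hg4 : g ^ 2 ^ 2 = 1 := by
    rw [show (2 : ℕ) ^ 2 = 2 * 2 by norm_num, pow_mul, pow_two, pow_two]
    exact h.exp _ hgg.1
  obtain ⟨m, hm, hmS⟩ := exists_conj_mem_sylow h hSX hg hg4
  refine ⟨g, hg, rfl, m, hm, hmS, hg0, hgg, ?_⟩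
  have hsq : m * g * m⁻¹ * (m * g * m⁻¹) = g * g := by
    rw [show m * g * m⁻¹ * (m * g * m⁻¹) = m * (g * g) * m⁻¹ by group, mem_center_iff.1 hgg.2 m,
      mul_inv_cancel_right]
  by_cases hc : m * g * m⁻¹ ∈ ctr (S : Subgroup G)
  · have h1 : g * g = 1 := hsq ▸ h.exp _ hc
    refine Or.inl ⟨h1, fun hgc => hg0 ?_, hc⟩
    have e1 : m * g * m⁻¹ = g := by rw [mem_center_iff.1 hgc m, mul_inv_cancel_right]
    exact mem_inf.2 ⟨e1 ▸ hc, hgc⟩
  · exact Or.inr ⟨hc, hsq.symm ▸ hgg.2⟩

omit h in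
/-- Centralizers in the quotient are solvable when the centralizers above are. -/
theorem solvable_cent_mk {g : G} (hsol : Group.IsSolvable ↥(centralizer ({g} : Set G))) :
    Group.IsSolvable ↥(centralizer ({QuotientGroup.mk' (ctr0 S) g} : Set (G ⧸ ctr0 S))) := by
  set π := QuotientGroup.mk' (ctr0 S)
  set Cb := centralizer ({π g} : Set (G ⧸ ctr0 S))
  set K := Cb.comap π
  have hK : ∀ k : ↥K, (k : G) * g * (k : G)⁻¹ * g⁻¹ ∈ ctr0 S := fun k => by
    rw [← QuotientGroup.eq_one_iff]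
    show π ((k : G) * g * (k : G)⁻¹ * g⁻¹) = 1
    rw [map_mul, map_mul, map_mul, map_inv, map_inv, mem_centralizer_singleton_iff.1 k.2,
      mul_inv_cancel_right, mul_inv_cancel]
  let f : ↥K →* ↥(ctr0 S) :=
    { toFun := fun k => ⟨(k : G) * g * (k : G)⁻¹ * g⁻¹, hK k⟩
      map_one' := Subtype.ext (show (1 : G) * g * (1 : G)⁻¹ * g⁻¹ = 1 by group)
      map_mul' := fun a b => Subtype.ext (by
        show (a : G) * b * g * ((a : G) * b)⁻¹ * g⁻¹ =
          (a : G) * g * (a : G)⁻¹ * g⁻¹ * ((b : G) * g * (b : G)⁻¹ * g⁻¹)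
        have hc := mem_center_iff.1 (ctr0_le_center (hK b))
        rw [hc, ← mul_inv_cancel_right ((b : G) * g * (b : G)⁻¹ * g⁻¹) (a : G), ← hc (a : G)]
        group) }
  haveI := hsol
  haveI : Group.IsSolvable ↥f.ker := by
    refine Group.isSolvable_of_isSolvable_injective (f := MonoidHom.mk'
      (fun k : ↥f.ker => (⟨((k : ↥K) : G), mem_centralizer_singleton_iff.2 (mul_inv_eq_iff_eq_mul.1
        (mul_inv_eq_one.1 (congrArg Subtype.val k.2 :)))⟩ : ↥(centralizer ({g} : Set G))))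
      fun _ _ => rfl) fun a b e => Subtype.ext (Subtype.ext (congrArg Subtype.val e :))
  haveI : Group.IsSolvable ↥(ctr0 S) := Group.isSolvable_of_comm fun a b =>
    Subtype.ext (mem_center_iff.1 (ctr0_le_center b.2) a)
  haveI : Group.IsSolvable ↥K := Group.isSolvable_of_ker_le_range f.ker.subtype f
    (by rw [range_subtype])
  exact Group.isSolvable_of_surjective (f := MonoidHom.mk' (fun k : ↥K => (⟨π k, k.2⟩ : ↥Cb))
    fun a b => Subtype.ext (map_mul π _ _)) fun q => by
      obtain ⟨k, hk⟩ := QuotientGroup.mk'_surjective (ctr0 S) (q : G ⧸ ctr0 S)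
      exact ⟨⟨k, show π k ∈ Cb by rw [hk]; exact q.2⟩, Subtype.ext hk⟩

omit h in
theorem solvable_cent_conj {g : G} (m : G)
    (hsol : Group.IsSolvable ↥(centralizer ({m * g * m⁻¹} : Set G))) :
    Group.IsSolvable ↥(centralizer ({g} : Set G)) := by
  haveI := hsol
  refine Group.isSolvable_of_isSolvable_injective (f := MonoidHom.mk'
    (fun k : ↥(centralizer ({g} : Set G)) => (⟨m * k * m⁻¹, mem_centralizer_singleton_iff.2 (by
      rw [show m * (k : G) * m⁻¹ * (m * g * m⁻¹) = m * ((k : G) * g) * m⁻¹ by group,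
        mem_centralizer_singleton_iff.1 k.2]
      group)⟩ : ↥(centralizer ({m * g * m⁻¹} : Set G))))
    fun a b => Subtype.ext (show m * ((a : G) * b) * m⁻¹ = m * a * m⁻¹ * (m * b * m⁻¹) by group))
    fun a b e => Subtype.ext (mul_left_cancel (mul_right_cancel (congrArg Subtype.val e :)))

variable {F : Type v} [Field F] [Fintype F] (M : Min F S n)
include M

omit h in
theorem Min.oddCore_quot : Cfsg.oddCore (G ⧸ ctr0 S) = ⊥ :=
  ZStar.CentralWeaklyClosed.oddCore_quotient_central M.core _ ctr0_le_center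
    (S.2.to_le (ctr0_le.trans ctr_le))

omit h in
/-- With solvable centralizers of roots all centralizers of involutions of the quotient are solvable. -/
theorem Min.solvable_cent_quot
    (hroot : ∀ y ∈ (S : Subgroup G), y ∉ ctr (S : Subgroup G) → y * y ∈ center G →
      Group.IsSolvable ↥(cenY y))
    {t : G ⧸ ctr0 S} (ht : orderOf t = 2) :
    Group.IsSolvable ↥(centralizer ({t} : Set (G ⧸ ctr0 S))) := by
  obtain ⟨g, -, rfl, m, -, hmS, -, -, hcase⟩ := M.type.exists_lift_conj (X := ⊤) le_top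
    (t := t) (by rw [map_top_of_surjective _ (QuotientGroup.mk'_surjective _)]; exact mem_top t) ht
  refine solvable_cent_mk (solvable_cent_conj m ?_)
  rcases hcase with ⟨-, hgc, hc⟩ | ⟨hc, hcc⟩
  · refine M.solvable_cent hc fun hmc => hgc ?_
    have e1 := mem_center_iff.1 hmc m⁻¹
    rwa [show g = m⁻¹ * (m * g * m⁻¹) * m by group, e1, mul_assoc, inv_mul_cancel, mul_one]
  · exact hroot _ hmS hc hcc

end Cfsg.Agent.SECoreTwoClosed
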