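import Cfsg.Agent.Lib.SECoreTwoClosed.UThree.Main

/-!
# Groups with Sylow 2-subgroups of type `PSU₃(2^n)`, `n ≥ 3`: the statement, given the core lemma
-/

set_option autoImplicit false

namespace Cfsg.Agent.SECoreTwoClosed

universe u v

/-- S3177, given the core lemma. -/
theorem statement_of_core (hcore : CoreLemma.{u}) {G : Type u} [Group G] [Finite G]
    (n : ℕ) (hn : 3 ≤ n) {F : Type v} [Field F] [Fintype F] (hF : Fintype.card F = 4 ^ n)
    (S : Sylow 2 G) (P : Sylow 2 (Cfsg.PSU 3 F (2 ^ n)))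
    (hS : Nonempty (↥(S : Subgroup G) ≃* ↥(P : Subgroup (Cfsg.PSU 3 F (2 ^ n))))) :
    (Group.IsSolvable G ∧ Cfsg.PLengthLE 2 1 G) ∨
      ∃ N : Subgroup (G ⧸ Cfsg.oddCore G), N.Normal ∧ Odd N.index ∧
        Nonempty (↥N ≃* Cfsg.PSU 3 F (2 ^ n)) := by
  obtain ⟨e⟩ := hS
  rcases goal_of_core hcore hF S (uType_of_psu hn hF (S : Subgroup G) P e) with h | h
  · exact Or.inl ⟨isSolvable_of_pLengthLE h, h⟩
  · exact Or.inr h

end Cfsg.Agent.SECoreTwoClosed
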